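import Cfsg.Agent.Lib.FieldMax.Lines

/-!
Unitary trace forms over a field extension of odd prime degree: the group data and transvection algebra.
-/

set_option autoImplicit false
set_option linter.unusedSectionVars false
set_option linter.style.haveILetI false

namespace CfsgLib.FieldMax.Unitary

variable {F L V : Type*} [Field F] [Field L] [Algebra F L] [AddCommGroup V] [Module F V] [Module L V]
  [IsScalarTower F L V]

/-- A hermitian form over the extension whose trace form is hermitian over the base field. -/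
structure HForm (σ : F →+* F) (τ : L →+* L) (β : V → V → L) (ε : Module.Dual F L) : Prop where
  add_left : ∀ u v w, β (u + v) w = β u w + β v w
  smul_left : ∀ (s : L) u w, β (s • u) w = s * β u w
  herm : ∀ u v, β v u = τ (β u v)
  nondeg : ∀ u, (∀ v, β u v = 0) → u = 0
  sinv : ∀ x, σ (σ x) = x
  sne : ∃ x, σ x ≠ x
  tinv : ∀ x, τ (τ x) = x
  talg : ∀ x, τ (algebraMap F L x) = algebraMap F L (σ x)
  eps : ε ≠ 0
  eps_tau : ∀ x, ε (τ x) = σ (ε x)
  prime : (Module.finrank F L).Prime
  odd : Odd (Module.finrank F L)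
  dim : 2 ≤ Module.finrank L V

variable {σ : F →+* F} {τ : L →+* L} {β : V → V → L} {ε : Module.Dual F L}

namespace HForm

variable (hf : HForm σ τ β ε)

include hf

theorem add_right (u v w : V) : β u (v + w) = β u v + β u w := by
  rw [hf.herm (v + w) u, hf.add_left, map_add, ← hf.herm, ← hf.herm]

theorem smul_right (s : L) (u w : V) : β u (s • w) = τ s * β u w := by
  rw [hf.herm (s • w) u, hf.smul_left, map_mul, ← hf.herm]

theorem zero_left (v : V) : β 0 v = 0 := by
  simpa using hf.smul_left 0 0 v

theorem zero_right (v : V) : β v 0 = 0 := by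
  simpa using hf.smul_right 0 v 0

theorem neg_left (u v : V) : β (-u) v = -β u v := by
  simpa using hf.smul_left (-1) u v

theorem neg_right (u v : V) : β u (-v) = -β u v := by
  simpa using hf.smul_right (-1) u v

theorem sub_left (u v w : V) : β (u - v) w = β u w - β v w := by
  rw [sub_eq_add_neg, hf.add_left, hf.neg_left, sub_eq_add_neg]

theorem sub_right (u v w : V) : β u (v - w) = β u v - β u w := by
  rw [sub_eq_add_neg, hf.add_right, hf.neg_right, sub_eq_add_neg]

theorem fsmul_left (x : F) (u w : V) : β (x • u) w = algebraMap F L x * β u w := by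
  rw [← algebraMap_smul L x u, hf.smul_left]

theorem fsmul_right (x : F) (u w : V) : β u (x • w) = algebraMap F L (σ x) * β u w := by
  rw [← algebraMap_smul L x w, hf.smul_right, hf.talg]

theorem zero_symm {u v : V} (h : β u v = 0) : β v u = 0 := by rw [hf.herm, h, map_zero]

theorem self_fixed (v : V) : τ (β v v) = β v v := (hf.herm v v).symm

theorem nondeg_right {u : V} (h : ∀ v, β v u = 0) : u = 0 := hf.nondeg u fun v => hf.zero_symm (h v)

theorem exists_partner {a : V} (ha : a ≠ 0) (c : L) : ∃ b, β b a = c := by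
  obtain ⟨b, hb⟩ : ∃ b, β b a ≠ 0 := by
    by_contra hcon
    push Not at hcon
    exact ha (hf.nondeg_right hcon)
  exact ⟨(c / β b a) • b, by rw [hf.smul_left, div_mul_cancel₀ _ hb]⟩

theorem t_inj {x : L} (h : τ x = 0) : x = 0 := by rw [← hf.tinv x, h, map_zero]

theorem t_ne {x : L} (h : x ≠ 0) : τ x ≠ 0 := fun e => h (hf.t_inj e)

end HForm

/-- The form over the base field. -/
def tf (β : V → V → L) (ε : Module.Dual F L) (u v : V) : F := ε (β u v)

/-- The linear form of a vector over the extension. -/
noncomputable def blin (hf : HForm σ τ β ε) (a : V) : Module.Dual L V where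
  toFun v := β v a
  map_add' u v := hf.add_left u v a
  map_smul' s v := hf.smul_left s v a

/-- The linear form of a vector over the base field. -/
noncomputable def hlin (hf : HForm σ τ β ε) (a : V) : Module.Dual F V := ε ∘ₗ (blin hf a).restrictScalars F

@[simp] theorem blin_apply (hf : HForm σ τ β ε) (a v : V) : blin hf a v = β v a := rfl

@[simp] theorem hlin_apply (hf : HForm σ τ β ε) (a v : V) : hlin hf a v = tf β ε v a := rfl

namespace HForm

variable (hf : HForm σ τ β ε)

include hf

theorem h_add_left (u v w : V) : tf β ε (u + v) w = tf β ε u w + tf β ε v w := by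
  simp [tf, hf.add_left]

theorem h_add_right (u v w : V) : tf β ε u (v + w) = tf β ε u v + tf β ε u w := by
  simp [tf, hf.add_right]

theorem h_sub_left (u v w : V) : tf β ε (u - v) w = tf β ε u w - tf β ε v w := by
  simp [tf, hf.sub_left]

theorem h_sub_right (u v w : V) : tf β ε u (v - w) = tf β ε u v - tf β ε u w := by
  simp [tf, hf.sub_right]

theorem h_neg_left (u v : V) : tf β ε (-u) v = -tf β ε u v := by simp [tf, hf.neg_left]

theorem h_neg_right (u v : V) : tf β ε u (-v) = -tf β ε u v := by simp [tf, hf.neg_right]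

theorem h_zero_left (v : V) : tf β ε 0 v = 0 := by simp [tf, hf.zero_left]

theorem h_zero_right (v : V) : tf β ε v 0 = 0 := by simp [tf, hf.zero_right]

theorem h_smul_left (x : F) (u v : V) : tf β ε (x • u) v = x * tf β ε u v := by
  rw [tf, hf.fsmul_left, ← Algebra.smul_def, map_smul, smul_eq_mul, tf]

theorem h_smul_right (x : F) (u v : V) : tf β ε u (x • v) = σ x * tf β ε u v := by
  rw [tf, hf.fsmul_right, ← Algebra.smul_def, map_smul, smul_eq_mul, tf]

theorem h_herm (u v : V) : tf β ε v u = σ (tf β ε u v) := by rw [tf, tf, hf.herm, hf.eps_tau]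

theorem h_zero_symm {u v : V} (h : tf β ε u v = 0) : tf β ε v u = 0 := by rw [hf.h_herm, h, map_zero]

theorem h_nondeg {u : V} (h : ∀ v, tf β ε u v = 0) : u = 0 := by
  refine hf.nondeg u fun v => ?_
  by_contra hne
  refine hf.eps (LinearMap.ext fun x => ?_)
  have := h (τ (x / β u v) • v)
  rwa [tf, hf.smul_right, hf.tinv, div_mul_cancel₀ _ hne] at this

theorem tau_smul (x : F) (y : L) : τ (x • y) = σ x • τ y := by
  rw [Algebra.smul_def, Algebra.smul_def, map_mul, hf.talg]

theorem h_exists {u : V} (hu : u ≠ 0) (c : F) : ∃ v, tf β ε v u = c := by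
  obtain ⟨w, hw⟩ : ∃ w, tf β ε w u ≠ 0 := by
    by_contra hcon
    push Not at hcon
    exact hu (hf.h_nondeg fun v => hf.h_zero_symm (hcon v))
  exact ⟨(c / tf β ε w u) • w, by rw [hf.h_smul_left, div_mul_cancel₀ _ hw]⟩

theorem h_eq_of_left {u u' : V} (h : ∀ v, tf β ε v u = tf β ε v u') : u = u' := by
  refine sub_eq_zero.1 (hf.h_nondeg fun v => hf.h_zero_symm ?_)
  rw [hf.h_sub_right, h, sub_self]

/-- An element with trace one, not fixed. -/
theorem exists_omega : ∃ ω : F, ω + σ ω = 1 ∧ ω ≠ σ ω := by
  obtain ⟨x₀, hx₀⟩ := hf.sne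
  have hs : ∀ x, σ (x + σ x) = x + σ x := fun x => by rw [map_add, hf.sinv, add_comm]
  obtain ⟨x, hx⟩ : ∃ x, x + σ x ≠ 0 := by
    by_contra hcon
    push Not at hcon
    have h1 := hcon 1
    rw [map_one] at h1
    refine hx₀ ?_
    linear_combination hcon x₀ - x₀ * h1
  set w := x / (x + σ x) with hw
  have hw1 : w + σ w = 1 := by
    rw [hw, map_div₀, hs, ← add_div, div_self hx]
  by_cases hne : w = σ w
  · refine ⟨w + (x₀ - σ x₀), ?_, fun e => hx₀ ?_⟩
    · rw [map_add, map_sub, hf.sinv]; linear_combination hw1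
    · rw [map_add, map_sub, hf.sinv] at e
      have h2 : (2 : F) * w = 1 := by linear_combination hw1 + hne
      have h2' : (2 : F) ≠ 0 := fun e' => by rw [e', zero_mul] at h2; exact zero_ne_one h2
      have : (2 : F) * (x₀ - σ x₀) = 0 := by linear_combination e - hne
      linear_combination -(mul_eq_zero.1 this).resolve_left h2'
  · exact ⟨w, hw1, hne⟩

end HForm

/-- A Siegel element over the extension field. -/
noncomputable def sie (hf : HForm σ τ β ε) (a b : V) (c : L) : Module.End F V :=
  lin1 (blin hf a) b + lin1 (c • blin hf a - blin hf b) a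

/-- A Siegel element over the base field. -/
noncomputable def sgl (hf : HForm σ τ β ε) (z p : V) (e : F) : Module.End F V :=
  (hlin hf z).smulRight p - (hlin hf p).smulRight z + e • (hlin hf z).smulRight z

theorem sie_apply (hf : HForm σ τ β ε) (a b v : V) (c : L) :
    sie hf a b c v = β v a • b + (c * β v a - β v b) • a := by
  simp [sie]

theorem sgl_apply (hf : HForm σ τ β ε) (z p v : V) (e : F) :
    sgl hf z p e v = tf β ε v z • p - tf β ε v p • z + (e * tf β ε v z) • z := by
  simp [sgl, smul_smul]

/-- A group of isometries of the trace form containing the Siegel elements over the extension. -/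
structure UExt (hf : HForm σ τ β ε) (M : Subgroup (Module.End F V)ˣ) : Prop where
  iso : ∀ g ∈ M, ∀ u v, tf β ε ((g : Module.End F V) u) ((g : Module.End F V) v) = tf β ε u v
  sieg : ∀ a b c, β a a = 0 → β b a = 0 → c + τ c + β b b = 0 → Mem M (sie hf a b c)

/-- All transvections with centre `z` are in the group. -/
def Full (hf : HForm σ τ β ε) (M : Subgroup (Module.End F V)ˣ) (z : V) : Prop :=
  ∀ e : F, e + σ e = 0 → Mem M (sgl hf z 0 e)

variable {M : Subgroup (Module.End F V)ˣ} {hf : HForm σ τ β ε}

theorem sgl_zero (z : V) : sgl hf z 0 0 = 0 := by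
  ext v; simp [sgl_apply, hf.h_zero_right]

/-- The product of two Siegel elements with the same centre. -/
theorem mem_sgl_add {z p p' : V} {e e' : F} (h : Mem M (sgl hf z p e)) (h' : Mem M (sgl hf z p' e'))
    (hz : tf β ε z z = 0) (hpz : tf β ε p z = 0) (hpz' : tf β ε p' z = 0) :
    Mem M (sgl hf z (p + p') (e + e' - tf β ε p' p)) := by
  obtain ⟨u, hu, ex⟩ := h
  obtain ⟨u', hu', ex'⟩ := h'
  refine ⟨u * u', mul_mem hu hu', LinearMap.ext fun v => ?_⟩
  simp only [Units.val_mul, ex, ex', Module.End.mul_apply, LinearMap.add_apply, Module.End.one_apply, sgl_apply,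
    hf.h_add_left, hf.h_add_right, hf.h_sub_left, hf.h_smul_left, hz, hpz, hpz', hf.h_zero_symm hpz]
  module

/-- The inverse of a Siegel element. -/
theorem mem_sgl_neg {z p : V} {e : F} (h : Mem M (sgl hf z p e)) (hz : tf β ε z z = 0) (hpz : tf β ε p z = 0) :
    Mem M (sgl hf z (-p) (-e - tf β ε p p)) := by
  obtain ⟨u, hu, ex⟩ := h
  refine ⟨u⁻¹, inv_mem hu, ?_⟩
  have h1 : (1 + sgl hf z (-p) (-e - tf β ε p p)) * (u : Module.End F V) = 1 := by
    rw [ex]
    refine LinearMap.ext fun v => ?_
    simp only [Module.End.mul_apply, LinearMap.add_apply, Module.End.one_apply, sgl_apply,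
      hf.h_add_left, hf.h_sub_left, hf.h_smul_left, hf.h_neg_right, hz, hpz, hf.h_zero_symm hpz]
    module
  calc ((u⁻¹ : (Module.End F V)ˣ) : Module.End F V)
      = (1 + sgl hf z (-p) (-e - tf β ε p p)) * u * (u⁻¹ : (Module.End F V)ˣ) := by rw [h1, one_mul]
    _ = 1 + sgl hf z (-p) (-e - tf β ε p p) := by rw [mul_assoc, Units.mul_inv, mul_one]

namespace UExt

variable (hM : UExt hf M)

include hM

theorem iso_inv {g : (Module.End F V)ˣ} (hg : g ∈ M) (u v : V) :
    tf β ε ((g : Module.End F V) u) v = tf β ε u (((g⁻¹ : (Module.End F V)ˣ) : Module.End F V) v) := by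
  conv_rhs => rw [← hM.iso g hg, apply_inv_apply]

theorem sgl_conj {g : (Module.End F V)ˣ} (hg : g ∈ M) {z p : V} {e : F} (h : Mem M (sgl hf z p e)) :
    Mem M (sgl hf ((g : Module.End F V) z) ((g : Module.End F V) p) e) := by
  convert h.conj hg using 1
  refine LinearMap.ext fun v => ?_
  have key : ∀ w, tf β ε (((g⁻¹ : (Module.End F V)ˣ) : Module.End F V) v) w = tf β ε v ((g : Module.End F V) w) :=
    fun w => by rw [← hM.iso g hg, apply_inv_apply]
  simp [Module.End.mul_apply, sgl_apply, key]

theorem full_map {g : (Module.End F V)ˣ} (hg : g ∈ M) {z : V} (h : Full hf M z) :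
    Full hf M ((g : Module.End F V) z) := fun e he => by
  have := hM.sgl_conj hg (h e he)
  rwa [map_zero] at this

end UExt

theorem sgl_smul (x : F) (z p : V) (e : F) :
    sgl hf (x • z) p e = sgl hf z (σ x • p) (x * σ x * e) := by
  ext v
  simp only [sgl_apply, hf.h_smul_right, hf.sinv, smul_smul]
  congr 1
  · congr 1 <;> ring_nf
  · ring_nf

theorem Full.smul {z : V} (h : Full hf M z) (x : F) : Full hf M (x • z) := fun e he => by
  have := h (x * σ x * e) (by rw [map_mul, map_mul, hf.sinv]; linear_combination (x * σ x) * he)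
  convert this using 1
  rw [sgl_smul, smul_zero]

theorem full_smul_iff {z : V} {x : F} (hx : x ≠ 0) : Full hf M (x • z) ↔ Full hf M z :=
  ⟨fun h => by simpa [smul_smul, inv_mul_cancel₀ hx] using h.smul x⁻¹, fun h => h.smul x⟩

end CfsgLib.FieldMax.Unitary
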