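import Cfsg.Agent.Lib.FieldMax.Unitary.Lines

/-!
A tilted isotropic line can be made to touch: the intersection grows to a hyperplane.
-/

set_option autoImplicit false
set_option linter.unusedSectionVars false
set_option linter.style.haveILetI false

namespace CfsgLib.FieldMax.Unitary

variable {F L V : Type*} [Field F] [Field L] [Algebra F L] [AddCommGroup V] [Module F V] [Module L V]
  [IsScalarTower F L V]
variable {σ : F →+* F} {τ : L →+* L} {β : V → V → L} {ε : Module.Dual F L}
variable [Fintype F] [FiniteDimensional F L] [FiniteDimensional L V] [FiniteDimensional F V]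

namespace HForm

variable (hf : HForm σ τ β ε)

include hf

theorem exists_rep (μ : Module.Dual L V) : ∃ b, ∀ v, β v b = μ v := by
  let S : Submodule L (Module.Dual L V) :=
    { carrier := Set.range (blin hf)
      add_mem' := by
        rintro _ _ ⟨a, rfl⟩ ⟨b, rfl⟩
        exact ⟨a + b, LinearMap.ext fun v => hf.add_right v a b⟩
      zero_mem' := ⟨0, LinearMap.ext fun v => hf.zero_right v⟩
      smul_mem' := by
        rintro s _ ⟨a, rfl⟩
        exact ⟨τ s • a, LinearMap.ext fun v => by simp [hf.smul_right, hf.tinv]⟩ }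
  have hS : S = ⊤ := by
    by_contra hne
    obtain ⟨f, hf0, hfS⟩ := Submodule.exists_le_ker_of_lt_top S (lt_top_iff_ne_top.2 hne)
    obtain ⟨v, rfl⟩ := (Module.evalEquiv L V).surjective f
    refine hf0 ?_
    rw [show v = 0 from hf.nondeg v fun w => ?_, map_zero]
    exact hfS (show blin hf w ∈ S from ⟨w, rfl⟩)
  obtain ⟨b, hb⟩ := (hS ▸ Submodule.mem_top : μ ∈ S)
  exact ⟨b, fun v => by rw [← hb]; rfl⟩

/-- A proper subspace does not absorb all skew elements. -/
theorem exists_skew_notMem {S : Submodule F L} (hS : S ≠ ⊤) {x : L} (hx : x ≠ 0) :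
    ∃ c : L, c + τ c = 0 ∧ c * x ∉ S := by
  by_contra hcon
  push Not at hcon
  obtain ⟨j, hj, hjs⟩ := hf.exists_skew
  obtain ⟨ω, hω, hne⟩ := hf.exists_omega
  refine hS (eq_top_iff.2 fun y _ => ?_)
  have hjs' : σ j = -j := eq_neg_of_add_eq_zero_right hjs
  have hfix : ∀ m : L, τ m = m → m * x ∈ S := fun m hm => by
    have := S.smul_mem j⁻¹ (hcon (j • m) (by rw [hf.tau_smul, hm, hjs', neg_smul, add_neg_cancel]))
    rwa [smul_mul_assoc, inv_smul_smul₀ hj] at this
  set l := y / x with hl
  set b := (ω - σ ω)⁻¹ • (l - τ l) with hb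
  have h1 : τ b = b := by
    rw [hb, hf.tau_smul, map_sub, hf.tinv, map_inv₀, map_sub, hf.sinv, ← neg_sub ω, inv_neg]
    module
  have h2 : τ (l - ω • b) = l - ω • b := by
    rw [map_sub, hf.tau_smul, h1]
    have e : (ω - σ ω) • b = l - τ l := by rw [hb, smul_inv_smul₀ (sub_ne_zero.2 hne)]
    linear_combination (norm := module) e
  clear_value b
  have := S.add_mem (hfix _ h2) (S.smul_mem ω (hfix _ h1))
  rwa [← smul_mul_assoc, ← add_mul, sub_add_cancel, hl, div_mul_cancel₀ _ hx] at this

/-- The skew choice for an injective projection. -/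
theorem exists_skew_split {S W : Submodule F L} {k : ℕ} (hk : Module.finrank F S = k)
    (hW : Module.finrank F W + k = Module.finrank F L) (hperp : ∀ x ∈ S, ∀ w ∈ W, ε (x * τ w) = 0) (hk1 : 1 ≤ k)
    (hk2 : k + 2 ≤ Module.finrank F L) :
    ∃ c : L, c + τ c = 0 ∧ (∃ w ∈ W, w ≠ 0 ∧ c * w ∈ S) ∧ ∃ w ∈ W, c * w ∉ S := by
  classical
  haveI : FiniteDimensional (fld σ) L := Module.Finite.trans F L
  obtain ⟨d, hd⟩ : ∃ d, Module.finrank F W = d := ⟨_, rfl⟩
  set bW := Module.finBasisOfFinrankEq F W hd
  let φ : Fin d → Module.Dual F L := fun i => ε ∘ₗ LinearMap.mulRight F (τ (bW i : L))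
  have hφ : ∀ i x, φ i x = ε (x * τ (bW i : L)) := fun i x => rfl
  have hli : LinearIndependent F φ := by
    rw [Fintype.linearIndependent_iff]
    intro g hg i
    set w : W := ∑ i, σ (g i) • bW i with hw
    have hw0 : w = 0 := by
      by_contra hne
      refine hf.eps (LinearMap.ext fun y => ?_)
      have hwne : τ (w : L) ≠ 0 := hf.t_ne fun e => hne (Subtype.ext e)
      have := LinearMap.congr_fun hg (y / τ (w : L))
      simp only [LinearMap.coe_sum, Finset.sum_apply, LinearMap.smul_apply, LinearMap.zero_apply, hφ,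
        ← map_smul, ← map_sum] at this
      rw [LinearMap.zero_apply, ← this, ← div_mul_cancel₀ y hwne]
      congr 1
      rw [mul_div_cancel_right₀ _ hwne]
      conv_lhs => arg 2; rw [hw, Submodule.coe_sum, map_sum]
      rw [Finset.mul_sum]
      exact Finset.sum_congr rfl fun i _ => by rw [Submodule.coe_smul, hf.tau_smul, hf.sinv, mul_smul_comm]
    have := Fintype.linearIndependent_iff.1 bW.linearIndependent _ hw0 i
    rw [← hf.sinv (g i), this, map_zero]
  have hS : ∀ x, (∀ i, φ i x = 0) → x ∈ S := by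
    intro x hx
    let T := (Submodule.span F (Set.range φ)).dualCoannihilator
    have e1 := Subspace.finrank_add_finrank_dualCoannihilator_eq (Submodule.span F (Set.range φ))
    rw [finrank_span_eq_card hli, Fintype.card_fin] at e1
    have hle : S ≤ T := fun y hy => (Submodule.mem_dualCoannihilator y).2 fun f hf' => by
      induction hf' using Submodule.span_induction with
      | mem f hf' => obtain ⟨i, rfl⟩ := hf'; exact hperp y hy _ (bW i).2
      | zero => rfl
      | add f g _ _ h h' => simp [h, h']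
      | smul c f _ h => simp [h]
    have hT : S = T := Submodule.eq_of_le_of_finrank_le hle (by
      have e2 : Module.finrank F T = Module.finrank F (Submodule.span F (Set.range φ)).dualCoannihilator := rfl
      rw [← e2] at e1
      omega)
    rw [hT]
    refine (Submodule.mem_dualCoannihilator x).2 fun f hf' => ?_
    induction hf' using Submodule.span_induction with
    | mem f hf' => obtain ⟨i, rfl⟩ := hf'; exact hx i
    | zero => rfl
    | add f g _ _ h h' => simp [h, h']
    | smul c f _ h => simp [h]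
  have hd2 : 2 ≤ d := by omega
  let K : Submodule (fld σ) L :=
    { carrier := {c | c + τ c = 0 ∧ ∀ w ∈ W, c * w ∈ S}
      zero_mem' := ⟨by simp, fun w _ => by rw [zero_mul]; exact S.zero_mem⟩
      add_mem' := fun {a b} ha hb => ⟨(hf.skewL.add_mem ha.1 hb.1 : a + b ∈ hf.skewL), fun w hw => by
        rw [add_mul]; exact S.add_mem (ha.2 w hw) (hb.2 w hw)⟩
      smul_mem' := fun c a ha => ⟨(hf.skewL.smul_mem c ha.1 : c • a ∈ hf.skewL), fun w hw => by
        rw [fld_smul, smul_mul_assoc]; exact S.smul_mem _ (ha.2 w hw)⟩ }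
  have hKle : K ≤ hf.skewL := fun c hc => hc.1
  obtain ⟨x₀, hx₀, hx₀0⟩ : ∃ x ∈ W, x ≠ 0 :=
    Submodule.exists_mem_ne_zero_of_ne_bot fun e => by rw [e, finrank_bot] at hd; omega
  set bK := Module.finBasis (fld σ) K
  obtain ⟨j, hj, hjs⟩ := hf.exists_skew
  have hjs' : σ j = -j := eq_neg_of_add_eq_zero_right hjs
  -- a basis over the fixed field stays independent
  have hliK : LinearIndependent F fun i => (bK i : L) := by
    rw [Fintype.linearIndependent_iff]
    intro g hg i
    have key : ∀ u : F, σ (u * g i) = u * g i := by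
      intro u
      have h1 : ∑ i, ((u * g i - σ (u * g i)) : F) • (bK i : L) = 0 := by
        have e1 : ∑ i, (u * g i) • (bK i : L) = 0 := by
          rw [← smul_zero u, ← hg, Finset.smul_sum]
          exact Finset.sum_congr rfl fun i _ => mul_smul _ _ _
        have e2 := congrArg τ e1
        rw [map_sum, map_zero] at e2
        simp only [hf.tau_smul, show ∀ i, τ (bK i : L) = -(bK i : L) from
          fun i => eq_neg_of_add_eq_zero_right (bK i).2.1, smul_neg, Finset.sum_neg_distrib, neg_eq_zero] at e2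
        simp only [sub_smul, Finset.sum_sub_distrib, e1, e2, sub_zero]
      let g' : Fin (Module.finrank (fld σ) K) → fld σ := fun i => ⟨(u * g i - σ (u * g i)) / j, by
        show σ _ = _
        rw [map_div₀, map_sub, hf.sinv, hjs', div_neg, ← neg_div, neg_sub]; rfl⟩
      have h2 : ∑ i, g' i • bK i = 0 := Subtype.ext (by
        rw [Submodule.coe_sum]
        have : ∀ i, ((g' i • bK i : K) : L) = j⁻¹ • ((u * g i - σ (u * g i)) • (bK i : L)) := fun i => by
          rw [Submodule.coe_smul, fld_smul, smul_smul, ← div_eq_inv_mul]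
        simp only [this, ← Finset.smul_sum, h1, smul_zero, ZeroMemClass.coe_zero])
      have h3 := congrArg Subtype.val (Fintype.linearIndependent_iff.1 bK.linearIndependent g' h2 i)
      exact (sub_eq_zero.1 ((div_eq_zero_iff.1 h3).resolve_right hj)).symm
    by_contra hgi
    obtain ⟨x, hx⟩ := hf.sne
    exact hx (by simpa [div_mul_cancel₀ _ hgi] using key (x / g i))
  let img : L → Fin (Module.finrank (fld σ) K) → S := fun x i => if h : x ∈ W then ⟨(bK i : L) * x, (bK i).2.2 x h⟩ else 0
  have himg : ∀ x ∈ W, x ≠ 0 → LinearIndependent F (img x) := by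
    intro x hx hx0
    refine LinearIndependent.of_comp S.subtype ?_
    have : S.subtype ∘ img x = LinearMap.mulRight F x ∘ fun i => (bK i : L) := by
      funext i; simp [img, hx]
    rw [this]
    exact hliK.map' _ (LinearMap.ker_eq_bot.2 fun a b h => mul_right_cancel₀ hx0 h)
  have heK : Module.finrank (fld σ) K ≤ k := by
    have := (himg x₀ hx₀ hx₀0).fintype_card_le_finrank
    rwa [Fintype.card_fin, hk] at this
  by_cases hek : Module.finrank (fld σ) K = k
  · exfalso
    haveI : Nonempty (Fin (Module.finrank (fld σ) K)) := ⟨⟨0, by omega⟩⟩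
    have hspan := (himg x₀ hx₀ hx₀0).span_eq_top_of_card_eq_finrank (by rw [Fintype.card_fin, hek, hk])
    have hS0 : S ≠ ⊥ := fun e => by rw [e, finrank_bot] at hk; omega
    have hS1 : S ≠ ⊤ := fun e => by rw [e, finrank_top] at hk; omega
    have hle : W ≤ F ∙ x₀ := by
      intro x hx
      obtain ⟨f, hf'⟩ := mem_range_of_stable F hf.prime hS0 hS1 (c := x / x₀) fun s hs => by
        obtain ⟨g, hg⟩ := Submodule.mem_span_range_iff_exists_fun F |>.1 (hspan ▸ Submodule.mem_top :
          (⟨s, hs⟩ : S) ∈ Submodule.span F (Set.range (img x₀)))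
        have e : s = ∑ i, g i • ((bK i : L) * x₀) := by
          have := congrArg Subtype.val hg.symm
          simpa [img, hx₀] using this
        rw [e, Finset.mul_sum]
        refine S.sum_mem fun i _ => ?_
        rw [mul_smul_comm, mul_comm (x / x₀), mul_assoc, mul_div_cancel₀ _ hx₀0]
        exact S.smul_mem _ ((bK i).2.2 x hx)
      exact Submodule.mem_span_singleton.2 ⟨f, by rw [Algebra.smul_def, hf', div_mul_cancel₀ _ hx₀0]⟩
    have := Submodule.finrank_mono hle
    rw [finrank_span_singleton hx₀0] at this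
    omega
  obtain ⟨K', hdisj, hsup⟩ : ∃ K' : Submodule (fld σ) L, Disjoint K K' ∧ K ⊔ K' = hf.skewL := by
    obtain ⟨C, hC⟩ := K.exists_isCompl
    refine ⟨C ⊓ hf.skewL, hC.disjoint.mono_right inf_le_left, ?_⟩
    rw [← sup_inf_assoc_of_le C hKle, hC.sup_eq_top, top_inf_eq]
  have hdim : d < Module.finrank (fld σ) K' := by
    have e1 := Submodule.finrank_sup_add_finrank_inf_eq K K'
    rw [hsup, hdisj.eq_bot, finrank_bot, hf.finrank_skewL] at e1
    omega
  let T : K' →ₗ[fld σ] Matrix (Fin d) (Fin d) F :=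
    { toFun := fun c => Matrix.of fun i l => j * ε ((c : L) * (bW i : L) * τ (bW l : L))
      map_add' := fun c c' => by ext i l; simp [add_mul, mul_add]
      map_smul' := fun x c => by
        ext i l
        simp [fld_smul, smul_mul_assoc, mul_left_comm] }
  obtain ⟨c, hc, hdet⟩ := hf.exists_singular T (fun c i l => by
    have hcs : (c : L) ∈ hf.skewL := hsup ▸ Submodule.mem_sup_right c.2
    have hcs' : τ (c : L) = -(c : L) := eq_neg_of_add_eq_zero_right hcs
    show σ (j * _) = j * _
    rw [map_mul, hjs', ← hf.eps_tau, map_mul τ, map_mul τ, hf.tinv, hcs', neg_mul, neg_mul, neg_mul, map_neg, mul_neg,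
      neg_neg]
    congr 2
    ring) hdim (by omega)
  obtain ⟨v, hv, hvM⟩ := Matrix.exists_vecMul_eq_zero_iff.2 hdet
  have hcs : (c : L) ∈ hf.skewL := hsup ▸ Submodule.mem_sup_right c.2
  set w : W := ∑ i, v i • bW i with hw
  refine ⟨c, hcs, ⟨w, w.2, fun e => hv ?_, hS _ fun l => ?_⟩, ?_⟩
  · funext i
    exact Fintype.linearIndependent_iff.1 bW.linearIndependent v (Subtype.ext e) i
  · have e := congrFun hvM l
    simp only [Matrix.vecMul, dotProduct, T, LinearMap.coe_mk, AddHom.coe_mk, Matrix.of_apply, Pi.zero_apply] at e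
    rw [hφ, hw, Submodule.coe_sum, Finset.mul_sum, Finset.sum_mul, map_sum]
    refine (smul_eq_zero.1 (show j • (∑ i, _) = (0 : F) from ?_)).resolve_left hj
    rw [smul_eq_mul, Finset.mul_sum, ← e]
    refine Finset.sum_congr rfl fun i _ => ?_
    rw [Submodule.coe_smul, mul_smul_comm, smul_mul_assoc, map_smul, smul_eq_mul]
    ring
  · by_contra hcon
    push Not at hcon
    have hcK : (c : L) ∈ K := ⟨hcs, hcon⟩
    exact hc (Subtype.ext (Submodule.disjoint_def.1 hdisj _ hcK c.2))

end HForm

namespace UExt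

variable {hf : HForm σ τ β ε} {M : Subgroup (Module.End F V)ˣ} (hM : UExt hf M)

include hM

/-- A map fixing the intersection and moving one vector little and the image much enlarges the intersection. -/
theorem bigger_of_mover {g : (Module.End F V)ˣ} (hg : g ∈ M) {a : V} {k : ℕ}
    (hk : Module.finrank F (line F L a ⊓ (line F L a).map (g : Module.End F V) : Submodule F V) = k)
    {x : (Module.End F V)ˣ} (hx : x ∈ M)
    (hfix : ∀ v ∈ line F L a ⊓ (line F L a).map (g : Module.End F V), (x : Module.End F V) v = v)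
    {y₀ : V} (hy₀ : y₀ ∈ (line F L a).map (g : Module.End F V))
    (hy₀' : y₀ ∉ line F L a ⊓ (line F L a).map (g : Module.End F V))
    (hsmall : (x : Module.End F V) y₀ - y₀ ∈ line F L a ⊓ (line F L a).map (g : Module.End F V))
    {y : V} (hy : y ∈ (line F L a).map (g : Module.End F V))
    (hbig : (x : Module.End F V) y ∉ (line F L a).map (g : Module.End F V)) :
    ∃ g' ∈ M, k + 1 ≤ Module.finrank F (line F L a ⊓ (line F L a).map (g' : Module.End F V) : Submodule F V) ∧
      (line F L a).map (g' : Module.End F V) ≠ line F L a := by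
  set A := line F L a with hA
  set B := A.map (g : Module.End F V) with hB
  set Z := A ⊓ B with hZ
  refine ⟨g⁻¹ * x * g, mul_mem (mul_mem (inv_mem hg) hx) hg, ?_, fun e => hbig ?_⟩
  · set P := Z ⊔ F ∙ ((x : Module.End F V) y₀) with hP
    have hPr : k + 1 ≤ Module.finrank F P := by
      rw [← hk]
      refine Submodule.finrank_lt_finrank_of_lt (lt_of_le_of_ne le_sup_left fun e => hy₀' ?_)
      have : (x : Module.End F V) y₀ ∈ Z := e ▸ Submodule.mem_sup_right (Submodule.mem_span_singleton_self _)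
      simpa using Z.sub_mem this hsmall
    have hle : P.map ((g⁻¹ : (Module.End F V)ˣ) : Module.End F V) ≤
        A ⊓ A.map ((g⁻¹ * x * g : (Module.End F V)ˣ) : Module.End F V) := by
      rw [Submodule.map_le_iff_le_comap, hP, sup_le_iff, Submodule.span_singleton_le_iff_mem]
      have hin : ∀ {p v : V}, v ∈ B → (x : Module.End F V) v = p → p ∈ B →
          ((g⁻¹ : (Module.End F V)ˣ) : Module.End F V) p ∈
            A ⊓ A.map ((g⁻¹ * x * g : (Module.End F V)ˣ) : Module.End F V) := by
        rintro p v ⟨w, hw, rfl⟩ hp ⟨w', hw', rfl⟩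
        refine ⟨by rwa [inv_apply_apply], w, hw, ?_⟩
        simp [Module.End.mul_apply, hp]
      refine ⟨fun v hv => hin hv.2 (hfix v hv) hv.2, hin hy₀ rfl ?_⟩
      simpa using B.add_mem hy₀ hsmall.2
    refine le_trans ?_ (Submodule.finrank_mono hle)
    rwa [← (Submodule.equivMapOfInjective _ (map_unit_inj g⁻¹) P).finrank_eq]
  · obtain ⟨w, hw, rfl⟩ := hy
    have h1 : ((g⁻¹ * x * g : (Module.End F V)ˣ) : Module.End F V) w ∈ A := e ▸ Submodule.mem_map_of_mem hw
    have h2 := Submodule.mem_map_of_mem (f := (g : Module.End F V)) h1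
    simpa only [Units.val_mul, Module.End.mul_apply, apply_inv_apply] using h2

/-- The intersection can be enlarged. -/
theorem exists_bigger {g : (Module.End F V)ˣ} (hg : g ∈ M) {a : V} (ha0 : a ≠ 0) (ha : β a a = 0) {k : ℕ}
    (hk : Module.finrank F (line F L a ⊓ (line F L a).map (g : Module.End F V) : Submodule F V) = k)
    (hk1 : 1 ≤ k) (hk2 : k + 2 ≤ Module.finrank F L) :
    ∃ g' ∈ M, k + 1 ≤ Module.finrank F (line F L a ⊓ (line F L a).map (g' : Module.End F V) : Submodule F V) ∧
      (line F L a).map (g' : Module.End F V) ≠ line F L a := by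
  set A := line F L a with hA
  set B := A.map (g : Module.End F V) with hB
  set Z := A ⊓ B with hZ
  have hBr : Module.finrank F B = Module.finrank F L := finrank_map_line g ha0
  have hZa : ∀ z ∈ Z, β z a = 0 := fun z hz => by
    obtain ⟨s, rfl⟩ := mem_line.1 hz.1
    rw [hf.smul_left, ha, mul_zero]
  have hBB : ∀ u ∈ B, ∀ v ∈ B, tf β ε u v = 0 := by
    rintro _ ⟨x, hx, rfl⟩ _ ⟨y, hy, rfl⟩
    obtain ⟨s, rfl⟩ := mem_line.1 hx
    obtain ⟨t, rfl⟩ := mem_line.1 hy
    rw [hM.iso g hg, tf, hf.smul_left, hf.smul_right, ha, mul_zero, mul_zero, map_zero]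
  let ι₀ : L →ₗ[F] V := (LinearMap.toSpanSingleton L V a).restrictScalars F
  let S : Submodule F L := Z.comap ι₀
  have hS : ∀ x : L, x ∈ S ↔ x • a ∈ Z := fun x => Iff.rfl
  have hSk : Module.finrank F S = k := by
    rw [← hk, (Submodule.equivMapOfInjective ι₀ (smul_left_injective L ha0) S).finrank_eq,
      Submodule.map_comap_eq_of_le fun v hv => by
        obtain ⟨s, rfl⟩ := mem_line.1 hv.1
        exact ⟨s, rfl⟩]
  have hS0 : S ≠ ⊥ := fun e => by rw [e, finrank_bot] at hSk; omega
  have hS1 : S ≠ ⊤ := fun e => by rw [e, finrank_top] at hSk; omega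
  have hout : ∀ {l : L}, l ∉ S → ∀ {y : V}, y ∈ B → y + l • a ∉ B := fun {l} hl {y} hy h => hl <| (hS l).2
    ⟨smul_mem_line a l, by simpa using B.sub_mem h hy⟩
  let φ : B →ₗ[F] L := (blin hf a).restrictScalars F ∘ₗ B.subtype
  have hroot : ∀ {c : L}, c + τ c = 0 → ∀ {y₀ y : V}, y₀ ∈ B → y₀ ∉ Z → y ∈ B → c * β y₀ a ∈ S → c * β y a ∉ S →
      ∃ g' ∈ M, k + 1 ≤ Module.finrank F (A ⊓ A.map (g' : Module.End F V) : Submodule F V) ∧
        A.map (g' : Module.End F V) ≠ A := fun {c} hc {y₀ y} h1 h2 h3 h4 h5 => by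
    obtain ⟨x, hx, -, e⟩ := hM.root ha hc
    refine hM.bigger_of_mover hg hk hx (fun v hv => ?_) h1 h2 ?_ h3 ?_
    · rw [e, hZa v hv, mul_zero, zero_smul, add_zero]
    · rw [e, add_sub_cancel_left]; exact h4
    · rw [e]; exact hout h5 h3
  by_cases hφ : ∀ y ∈ B, β y a = 0
  · -- a Siegel element
    obtain ⟨y₀, hy₀, hy₀Z⟩ : ∃ y ∈ B, y ∉ Z := by
      by_contra hcon
      push Not at hcon
      have := Submodule.finrank_mono (show B ≤ Z from hcon)
      omega
    have hy₀A : y₀ ∉ L ∙ a := fun h => hy₀Z ⟨h, hy₀⟩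
    obtain ⟨μ, hμa, hμy, y, hy, hμyS⟩ : ∃ μ : Module.Dual L V, μ a = 0 ∧ μ y₀ ∈ S ∧ ∃ y ∈ B, μ y ∉ S := by
      by_cases hb : ∃ y ∈ B, y ∉ Submodule.span L {a, y₀}
      · obtain ⟨y, hy, hyn⟩ := hb
        obtain ⟨t, ht⟩ : ∃ t, t ∉ S := by
          by_contra hcon
          push Not at hcon
          exact hS1 (eq_top_iff.2 fun x _ => hcon x)
        obtain ⟨ν, hν, hνy⟩ := exists_form_eq hyn t
        exact ⟨ν, hν a (Submodule.subset_span (by simp)),
          by rw [hν y₀ (Submodule.subset_span (by simp))]; exact S.zero_mem, y, hy, by rwa [hνy]⟩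
      push Not at hb
      obtain ⟨μ₀, hμ₀, hμ₀y⟩ := exists_form_eq hy₀A 1
      have hμ₀a : μ₀ a = 0 := hμ₀ a (Submodule.mem_span_singleton_self a)
      by_cases hc : ∀ y ∈ B, μ₀ y ∈ Set.range (algebraMap F L)
      · exfalso
        have hle : B ≤ Z ⊔ F ∙ y₀ := fun y hy => by
          obtain ⟨s, l, hsl⟩ := Submodule.mem_span_pair.1 (hb y hy)
          obtain ⟨f, hf'⟩ := hc y hy
          have hl : l = algebraMap F L f := by rw [hf', ← hsl]; simp [hμ₀a, hμ₀y]
          rw [← hsl, hl, algebraMap_smul]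
          refine Submodule.add_mem_sup ⟨smul_mem_line a s, ?_⟩
            (Submodule.smul_mem _ f (Submodule.mem_span_singleton_self y₀))
          have := B.sub_mem hy (B.smul_mem f hy₀)
          rwa [← hsl, hl, algebraMap_smul, add_sub_cancel_right] at this
        have h1 := Submodule.finrank_mono hle
        have h2 := Submodule.finrank_add_le_finrank_add_finrank Z (F ∙ y₀)
        have h3 : Module.finrank F (F ∙ y₀) ≤ 1 := by simpa using finrank_span_le_card (R := F) ({y₀} : Set V)
        omega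
      push Not at hc
      obtain ⟨y, hy, hyR⟩ := hc
      obtain ⟨s, hs, hsy⟩ : ∃ s ∈ S, μ₀ y * s ∉ S := by
        by_contra hcon
        push Not at hcon
        exact hyR (mem_range_of_stable F hf.prime hS0 hS1 hcon)
      exact ⟨s • μ₀, by simp [hμ₀a], by simpa [hμ₀y] using hs, y, hy, by simpa [mul_comm] using hsy⟩
    obtain ⟨b, hb⟩ := hf.exists_rep μ
    have hba : β b a = 0 := hf.zero_symm (by rw [hb, hμa])
    obtain ⟨c, hc⟩ := hf.exists_trace (x := -β b b) (by rw [map_neg, hf.self_fixed])
    obtain ⟨x, hx, e⟩ := hM.sieg a b c ha hba (by rw [hc, neg_add_cancel])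
    have hxv : ∀ v ∈ B, (x : Module.End F V) v = v + (-μ v) • a := fun v hv => by
      simp [e, sie_apply, hφ v hv, hb, add_comm]
    refine hM.bigger_of_mover hg hk hx (fun v hv => ?_) hy₀ hy₀Z ?_ hy ?_
    · obtain ⟨s, rfl⟩ := mem_line.1 hv.1
      rw [hxv _ hv.2, map_smul, hμa, smul_zero, neg_zero, zero_smul, add_zero]
    · rw [hxv _ hy₀, add_sub_cancel_left]
      exact (hS _).1 (S.neg_mem hμy)
    · rw [hxv _ hy]
      exact hout (fun h => hμyS (by simpa using S.neg_mem h)) hy
  by_cases hker : ∃ y ∈ B, y ∉ Z ∧ β y a = 0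
  · obtain ⟨y₀, hy₀, hy₀Z, hy₀a⟩ := hker
    push Not at hφ
    obtain ⟨y, hy, hya⟩ := hφ
    obtain ⟨c, hc, hcy⟩ := hf.exists_skew_notMem hS1 hya
    exact hroot hc hy₀ hy₀Z hy (by rw [hy₀a, mul_zero]; exact S.zero_mem) hcy
  push Not at hker
  have hkerφ : LinearMap.ker φ = Z.comap B.subtype := by
    ext y
    constructor
    · intro hy
      by_contra hyZ
      exact hker y y.2 hyZ hy
    · intro hy
      exact hZa _ hy
  have hW : Module.finrank F (LinearMap.range φ) + k = Module.finrank F L := by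
    rw [← hBr, ← LinearMap.finrank_range_add_finrank_ker φ, hkerφ,
      (Submodule.comapSubtypeEquivOfLe (inf_le_right : Z ≤ B)).finrank_eq, hk]
  obtain ⟨c, hc, ⟨w, ⟨⟨y₀, hy₀⟩, rfl⟩, hw0, hws⟩, ⟨_, ⟨⟨y, hy⟩, rfl⟩, hyS⟩⟩ :=
    hf.exists_skew_split hSk hW (by
      rintro x hx _ ⟨⟨y, hy⟩, rfl⟩
      have := hBB _ ((hS x).1 hx).2 y hy
      rwa [tf, hf.smul_left, hf.herm y a] at this) hk1 hk2
  exact hroot hc hy₀ (fun h => hw0 (hZa _ h)) hy hws hyS

/-- Two lines in the orbit meet in a hyperplane of each. -/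
theorem exists_touching {u : (Module.End F V)ˣ} (hu : u ∈ M)
    (hn : ¬ ∀ s : L, ∃ t : L, ∀ v : V, (u : Module.End F V) (s • v) = t • (u : Module.End F V) v) :
    ∃ g ∈ M, ∃ a : V, a ≠ 0 ∧ β a a = 0 ∧ (line F L a).map (g : Module.End F V) ≠ line F L a ∧
      Module.finrank F (line F L a ⊓ (line F L a).map (g : Module.End F V) : Submodule F V) + 1 =
        Module.finrank F L := by
  obtain ⟨g₀, hg₀, a, ha0, ha, h1, hne₀⟩ := hM.exists_tilted hu hn
  suffices ∀ n, ∀ g ∈ M, (line F L a).map (g : Module.End F V) ≠ line F L a →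
      ∀ k, Module.finrank F (line F L a ⊓ (line F L a).map (g : Module.End F V) : Submodule F V) = k → 1 ≤ k →
      Module.finrank F L ≤ k + n → ∃ g' ∈ M, ∃ b : V, b ≠ 0 ∧ β b b = 0 ∧
        (line F L b).map (g' : Module.End F V) ≠ line F L b ∧
        Module.finrank F (line F L b ⊓ (line F L b).map (g' : Module.End F V) : Submodule F V) + 1 =
          Module.finrank F L by
    exact this _ g₀ hg₀ hne₀ _ rfl h1 (Nat.le_add_left _ _)
  intro n
  induction n with
  | zero =>
    intro g hg hne k hk h1 hle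
    exfalso
    refine hne (Submodule.eq_of_le_of_finrank_eq ?_ (by rw [finrank_map_line g ha0, finrank_line ha0]))
    have hA : line F L a ⊓ (line F L a).map (g : Module.End F V) = line F L a :=
      Submodule.eq_of_le_of_finrank_le inf_le_left (by rw [finrank_line ha0, hk]; omega)
    have hB : line F L a ⊓ (line F L a).map (g : Module.End F V) = (line F L a).map (g : Module.End F V) :=
      Submodule.eq_of_le_of_finrank_le inf_le_right (by rw [finrank_map_line g ha0, hk]; omega)
    exact (hB.symm.trans hA).le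
  | succ n ih =>
    intro g hg hne k hk h1 hle
    by_cases hk2 : k + 2 ≤ Module.finrank F L
    · obtain ⟨g', hg', hbig, hne'⟩ := hM.exists_bigger hg ha0 ha hk h1 hk2
      exact ih g' hg' hne' _ rfl (by omega) (by omega)
    · refine ⟨g, hg, a, ha0, ha, hne, ?_⟩
      have hlt : k < Module.finrank F L := by
        by_contra hlt
        apply hne
        have hA : line F L a ⊓ (line F L a).map (g : Module.End F V) = line F L a :=
          Submodule.eq_of_le_of_finrank_le inf_le_left (by rw [finrank_line ha0, hk]; omega)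
        have hB : line F L a ⊓ (line F L a).map (g : Module.End F V) = (line F L a).map (g : Module.End F V) :=
          Submodule.eq_of_le_of_finrank_le inf_le_right (by rw [finrank_map_line g ha0, hk]; omega)
        exact hB.symm.trans hA
      omega

end UExt

end CfsgLib.FieldMax.Unitary
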