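import Cfsg.Agent.Lib.FieldMax.Unitary.Basic

/-!
Isotropic vectors and singular members of hermitian families, by Chevalley and Warning.
-/

set_option autoImplicit false
set_option linter.unusedSectionVars false
set_option linter.style.haveILetI false

namespace CfsgLib.FieldMax.Unitary

open MvPolynomial in
/-- A quadratic map to a space of less than half the dimension has a non-trivial zero. -/
theorem exists_quad_zero {K W U : Type*} [Field K] [Fintype K] [AddCommGroup W] [Module K W] [FiniteDimensional K W]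
    [AddCommGroup U] [Module K U] [FiniteDimensional K U] (B : W →ₗ[K] W →ₗ[K] U)
    (h : 2 * Module.finrank K U < Module.finrank K W) : ∃ w, w ≠ 0 ∧ B w w = 0 := by
  classical
  set b := Module.finBasis K W
  set c := Module.finBasis K U
  let f : Fin (Module.finrank K U) → MvPolynomial (Fin (Module.finrank K W)) K := fun i =>
    ∑ a, ∑ a', C (c.repr (B (b a) (b a')) i) * X a * X a'
  have hdeg : ∀ i, (f i).totalDegree ≤ 2 := fun i =>
    totalDegree_finsetSum_le fun a _ => totalDegree_finsetSum_le fun a' _ => by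
      refine (totalDegree_mul _ _).trans ?_
      refine (Nat.add_le_add (totalDegree_mul _ _) le_rfl).trans ?_
      simp [totalDegree_X]
  obtain ⟨p, hp⟩ := CharP.exists K
  haveI : NeZero p := CharP.char_is_prime K p |> fun h => ⟨h.ne_zero⟩
  have hlt : ∑ i, (f i).totalDegree < Fintype.card (Fin (Module.finrank K W)) := by
    refine lt_of_le_of_lt (Finset.sum_le_sum fun i _ => hdeg i) ?_
    simpa [mul_comm] using h
  have hdvd := char_dvd_card_solutions_of_fintype_sum_lt p hlt
  rw [← @Nat.card_eq_fintype_card _ (_)] at hdvd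
  set S := { x : Fin (Module.finrank K W) → K // ∀ i, eval x (f i) = 0 }
  have hmem : ∀ i, eval (0 : Fin (Module.finrank K W) → K) (f i) = 0 := fun i => by simp [f]
  have hpos : 0 < Fintype.card S := Fintype.card_pos_iff.2 ⟨⟨0, hmem⟩⟩
  have h2 : 1 < Fintype.card S := lt_of_lt_of_le (CharP.char_is_prime K p).one_lt (Nat.le_of_dvd hpos (by rwa [← Nat.card_eq_fintype_card]))
  obtain ⟨x, hx⟩ := Fintype.exists_ne_of_one_lt_card h2 ⟨0, hmem⟩
  refine ⟨b.equivFun.symm x.1, fun e => hx (Subtype.ext (b.equivFun.symm.map_eq_zero_iff.1 e)), c.repr.injective (Finsupp.ext fun i => ?_)⟩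
  rw [map_zero, Finsupp.zero_apply]
  refine Eq.trans ?_ (x.2 i)
  simp only [f, Module.Basis.equivFun_symm_apply, map_sum, LinearMap.sum_apply, map_smul, LinearMap.smul_apply,
    Finsupp.finset_sum_apply, Finsupp.smul_apply, smul_eq_mul, map_mul, eval_C, eval_X, Finset.mul_sum]
  rw [Finset.sum_comm]
  exact Finset.sum_congr rfl fun a _ => Finset.sum_congr rfl fun a' _ => by ring

variable {F L V : Type*} [Field F] [Field L] [Algebra F L] [AddCommGroup V] [Module F V] [Module L V]
  [IsScalarTower F L V]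
variable {σ : F →+* F} {τ : L →+* L} {β : V → V → L} {ε : Module.Dual F L}

/-- The fixed field. -/
abbrev fld (σ : F →+* F) : Subfield F := RingHom.eqLocusField σ (RingHom.id F)

theorem mem_fld {x : F} : x ∈ fld σ ↔ σ x = x := Iff.rfl

theorem fld_smul {X : Type*} [AddCommGroup X] [Module F X] (c : fld σ) (x : X) : c • x = (c : F) • x := rfl

namespace HForm

variable (hf : HForm σ τ β ε)

include hf

theorem two_finrank_fixed {X : Type*} [AddCommGroup X] [Module F X] [Fintype F] [FiniteDimensional F X] (t : X →+ X)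
    (ht : ∀ (c : F) x, t (c • x) = σ c • t x) (hti : ∀ x, t (t x) = x) (X₀ : Submodule (fld σ) X)
    (hX₀ : ∀ x, x ∈ X₀ ↔ t x = x) : Module.finrank (fld σ) X = 2 * Module.finrank (fld σ) X₀ := by
  obtain ⟨ω, hω, hωne⟩ := hf.exists_omega
  have hω' : ω - σ ω ≠ 0 := sub_ne_zero.2 hωne
  let Φ : (X₀ × X₀) →ₗ[fld σ] X :=
    { toFun := fun p => (p.1 : X) + ω • (p.2 : X)
      map_add' := fun p q => by simp; module
      map_smul' := fun c p => by simp [fld_smul, smul_smul, mul_comm] }
  have hΦ : Function.Bijective Φ := by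
    refine ⟨(injective_iff_map_eq_zero Φ).2 fun p hp => ?_, fun x => ?_⟩
    · have e : (p.1 : X) + ω • (p.2 : X) = 0 := hp
      have e' := congrArg t e
      rw [map_add, ht, (hX₀ _).1 p.1.2, (hX₀ _).1 p.2.2, map_zero] at e'
      have h2 : (p.2 : X) = 0 := (smul_eq_zero.1 (show (ω - σ ω) • (p.2 : X) = 0 by
        linear_combination (norm := module) e - e')).resolve_left hω'
      rw [h2, smul_zero, add_zero] at e
      exact Prod.ext (Subtype.ext e) (Subtype.ext h2)
    · set b := (ω - σ ω)⁻¹ • (x - t x) with hb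
      have htb : t b = b := by
        rw [hb, ht, map_sub, hti, map_inv₀, map_sub, hf.sinv, ← neg_sub ω, inv_neg]
        module
      refine ⟨(⟨x - ω • b, (hX₀ _).2 ?_⟩, ⟨b, (hX₀ _).2 htb⟩), by simp [Φ]⟩
      rw [map_sub, ht, htb]
      have e : (ω - σ ω) • b = x - t x := by rw [hb, smul_inv_smul₀ hω']
      linear_combination (norm := module) e
  haveI : FiniteDimensional (fld σ) X := Module.Finite.trans F X
  rw [← (LinearEquiv.ofBijective Φ hΦ).finrank_eq, Module.finrank_prod, two_mul]

theorem finrank_fld [Fintype F] : Module.finrank (fld σ) F = 2 := by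
  let X₀ : Submodule (fld σ) F := LinearMap.range (Algebra.linearMap (fld σ) F)
  rw [hf.two_finrank_fixed σ.toAddMonoidHom (fun c x => by simp) hf.sinv X₀ fun x => ?_]
  · rw [LinearMap.finrank_range_of_inj (FaithfulSMul.algebraMap_injective (fld σ) F), Module.finrank_self]
  · constructor
    · rintro ⟨c, rfl⟩; exact c.2
    · intro h; exact ⟨⟨x, h⟩, rfl⟩

theorem finrank_restrict [Fintype F] (X : Type*) [AddCommGroup X] [Module F X] :
    Module.finrank (fld σ) X = 2 * Module.finrank F X := by
  rw [← Module.finrank_mul_finrank (fld σ) F X, hf.finrank_fld]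

/-- The fixed elements of the extension. -/
def fixL : Submodule (fld σ) L where
  carrier := {x | τ x = x}
  add_mem' {x y} hx hy := by rw [Set.mem_ofPred_eq] at *; rw [map_add, hx, hy]
  zero_mem' := map_zero τ
  smul_mem' c x hx := by
    rw [Set.mem_ofPred_eq] at *
    rw [fld_smul, hf.tau_smul, hx, c.2]; rfl

/-- The skew elements of the extension. -/
def skewL : Submodule (fld σ) L where
  carrier := {x | x + τ x = 0}
  add_mem' {x y} hx hy := by
    rw [Set.mem_ofPred_eq] at *; rw [map_add]; linear_combination hx + hy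
  zero_mem' := by simp
  smul_mem' c x hx := by
    rw [Set.mem_ofPred_eq] at *
    rw [fld_smul, hf.tau_smul, c.2, RingHom.id_apply, ← smul_add, hx, smul_zero]

variable [Fintype F] [FiniteDimensional F L]


theorem finrank_fixL : Module.finrank (fld σ) hf.fixL = Module.finrank F L := by
  have := hf.two_finrank_fixed τ.toAddMonoidHom (fun c x => hf.tau_smul c x) hf.tinv hf.fixL fun x => Iff.rfl
  rw [hf.finrank_restrict L] at this
  omega

theorem exists_skew : ∃ j : F, j ≠ 0 ∧ j + σ j = 0 := by
  obtain ⟨x, hx⟩ := hf.sne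
  exact ⟨x - σ x, sub_ne_zero.2 (Ne.symm hx), by rw [map_sub, hf.sinv]; ring⟩

theorem finrank_skewL : Module.finrank (fld σ) hf.skewL = Module.finrank F L := by
  obtain ⟨j, hj, hjs⟩ := hf.exists_skew
  have hjs' : σ j = -j := eq_neg_of_add_eq_zero_right hjs
  let Φ : hf.fixL →ₗ[fld σ] hf.skewL :=
    { toFun := fun x => ⟨j • (x : L), by
        show j • (x : L) + τ (j • (x : L)) = 0
        rw [hf.tau_smul, x.2, hjs', neg_smul, add_neg_cancel]⟩
      map_add' := fun x y => by ext; simp [smul_add]
      map_smul' := fun c x => by ext; simp [fld_smul, smul_comm j] }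
  rw [← hf.finrank_fixL]
  refine (LinearEquiv.ofBijective Φ ⟨(injective_iff_map_eq_zero Φ).2 fun x hx => Subtype.ext ?_, fun y => ?_⟩).finrank_eq.symm
  · exact (smul_eq_zero.1 (congrArg Subtype.val hx : j • (x : L) = 0)).resolve_left hj
  · refine ⟨⟨j⁻¹ • (y : L), ?_⟩, Subtype.ext (smul_inv_smul₀ hj (y : L))⟩
    show τ (j⁻¹ • (y : L)) = _
    have hy : τ (y : L) = -(y : L) := eq_neg_of_add_eq_zero_right y.2
    rw [hf.tau_smul, map_inv₀, hjs', inv_neg, hy, neg_smul, smul_neg, neg_neg]

theorem exists_fixed_eps : ∃ x, τ x = x ∧ ε x ≠ 0 := by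
  obtain ⟨ω, hω, hωne⟩ := hf.exists_omega
  by_contra hcon
  push Not at hcon
  refine hf.eps (LinearMap.ext fun x => ?_)
  have h1 := hcon (x + τ x) (by rw [map_add, hf.tinv, add_comm])
  have h2 := hcon (σ ω • x + ω • τ x) (by
    rw [map_add, hf.tau_smul, hf.tau_smul, hf.tinv, hf.sinv, add_comm])
  rw [map_add, hf.eps_tau] at h1
  rw [map_add, map_smul, map_smul, hf.eps_tau, smul_eq_mul, smul_eq_mul] at h2
  exact (mul_eq_zero.1 (show (ω - σ ω) * ε x = 0 by linear_combination ω * h1 - h2)).resolve_left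
    (sub_ne_zero.2 hωne)

/-- A totally isotropic subspace of the dimension of the extension has a vector isotropic over the extension. -/
theorem exists_isotropic [FiniteDimensional F V] {B : Submodule F V} (hB : ∀ u ∈ B, ∀ v ∈ B, tf β ε u v = 0)
    (hd : Module.finrank F L ≤ Module.finrank F B) : ∃ v ∈ B, v ≠ 0 ∧ β v v = 0 := by
  haveI : FiniteDimensional (fld σ) L := Module.Finite.trans F L
  haveI : FiniteDimensional (fld σ) B := Module.Finite.trans F B
  haveI : Fintype (fld σ) := Fintype.ofFinite _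
  let T : Submodule (fld σ) L := hf.fixL ⊓ LinearMap.ker (ε.restrictScalars (fld σ))
  have hlt : Module.finrank (fld σ) T < Module.finrank (fld σ) hf.fixL := by
    refine Submodule.finrank_lt_finrank_of_lt (lt_of_le_of_ne inf_le_left fun e => ?_)
    obtain ⟨x, hx, hx0⟩ := hf.exists_fixed_eps
    exact hx0 ((show x ∈ T by rw [e]; exact hx).2)
  obtain ⟨P, hP⟩ := LinearMap.exists_leftInverse_of_injective T.subtype (by simp)
  let B' : B →ₗ[fld σ] B →ₗ[fld σ] T := LinearMap.mk₂ (fld σ) (fun u v => P (β (u : V) (v : V)))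
    (fun u u' v => by rw [← map_add, ← hf.add_left]; rfl)
    (fun c u v => by
      rw [← map_smul, fld_smul c (β _ _), Algebra.smul_def, ← hf.fsmul_left]; rfl)
    (fun u v v' => by rw [← map_add, ← hf.add_right]; rfl)
    (fun c u v => by
      have hc := hf.fsmul_right (c : F) (u : V) (v : V)
      rw [c.2, RingHom.id_apply] at hc
      rw [← map_smul, fld_smul c (β _ _), Algebra.smul_def, ← hc]; rfl)
  have hlt' : 2 * Module.finrank (fld σ) T < Module.finrank (fld σ) B := by
    rw [hf.finrank_fixL] at hlt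
    rw [hf.finrank_restrict B]
    omega
  obtain ⟨w, hw, hw0⟩ := exists_quad_zero B' hlt'
  refine ⟨w, w.2, fun e => hw (Subtype.ext e), ?_⟩
  have hmem : β (w : V) w ∈ T := ⟨hf.self_fixed _, hB _ w.2 _ w.2⟩
  have e : P (β (w : V) w) = ⟨_, hmem⟩ := LinearMap.congr_fun hP ⟨_, hmem⟩
  simpa using congrArg Subtype.val (e.symm.trans hw0)

open MvPolynomial in
/-- A family of hermitian matrices of dimension above their degree has a singular member. -/
theorem exists_singular {d : ℕ} {Ks : Type*} [AddCommGroup Ks] [Module (fld σ) Ks] [FiniteDimensional (fld σ) Ks]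
    (T : Ks →ₗ[fld σ] Matrix (Fin d) (Fin d) F) (hT : ∀ c i j, σ (T c i j) = T c j i)
    (hd : d < Module.finrank (fld σ) Ks) (hd0 : d ≠ 0) : ∃ c, c ≠ 0 ∧ (T c).det = 0 := by
  classical
  set b := Module.finBasis (fld σ) Ks
  let Mx : Matrix (Fin d) (Fin d) (MvPolynomial (Fin (Module.finrank (fld σ) Ks)) F) :=
    Matrix.of fun i j => ∑ a, C (T (b a) i j) * X a
  have hσ : MvPolynomial.map σ Mx.det = Mx.det := by
    rw [RingHom.map_det, show (MvPolynomial.map σ).mapMatrix Mx = Mx.transpose from ?_, Matrix.det_transpose]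
    refine Matrix.ext fun i j => ?_
    simp [Mx, hT]
  obtain ⟨P₀, hP₀⟩ : Mx.det ∈ RingHom.range (MvPolynomial.map (σ := Fin (Module.finrank (fld σ) Ks))
      (algebraMap (fld σ) F)) := by
    refine mem_range_map_iff_coeffs_subset.2 ?_
    intro c hc
    obtain ⟨m, -, rfl⟩ := mem_coeffs_iff.1 hc
    exact ⟨⟨_, show σ (Mx.det.coeff m) = Mx.det.coeff m by conv_rhs => rw [← hσ, coeff_map]⟩, rfl⟩
  have hdeg : P₀.totalDegree ≤ d := by
    rw [show P₀.totalDegree = Mx.det.totalDegree by
      rw [← hP₀]; simp only [totalDegree, support_map_of_injective _ (FaithfulSMul.algebraMap_injective (fld σ) F)]]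
    rw [Matrix.det_apply]
    refine totalDegree_finsetSum_le fun π _ => (totalDegree_smul_le _ _).trans ?_
    refine (totalDegree_finset_prod _ _).trans ((Finset.sum_le_card_nsmul _ _ 1 fun i _ => ?_).trans (by simp))
    simp only [Mx, Matrix.of_apply]
    exact totalDegree_finsetSum_le fun a _ => (totalDegree_mul _ _).trans (by simp [totalDegree_X])
  haveI : Fintype (fld σ) := Fintype.ofFinite _
  obtain ⟨p, hp⟩ := CharP.exists (fld σ)
  have hdvd := char_dvd_card_solutions (f := P₀) p (by simpa using lt_of_le_of_lt hdeg hd)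
  set S := { x : Fin (Module.finrank (fld σ) Ks) → fld σ // eval x P₀ = 0 }
  have hkey : ∀ x : Fin (Module.finrank (fld σ) Ks) → fld σ, ((eval x P₀ : fld σ) : F) = (T (b.equivFun.symm x)).det := by
    intro x
    have e := map_eval (algebraMap (fld σ) F) x P₀
    rw [hP₀] at e
    refine e.trans ?_
    rw [RingHom.map_det, Module.Basis.equivFun_symm_apply]
    congr 1
    refine Matrix.ext fun i j => ?_
    simp [Mx, Matrix.sum_apply, fld_smul, mul_comm]; rfl
  have hmem : eval 0 P₀ = 0 := Subtype.ext (by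
    rw [hkey]
    haveI : Nonempty (Fin d) := ⟨⟨0, by omega⟩⟩
    simp [Module.Basis.equivFun_symm_apply, Matrix.det_zero])
  have hpos : 0 < Fintype.card S := Fintype.card_pos_iff.2 ⟨⟨0, hmem⟩⟩
  have h2 : 1 < Fintype.card S := lt_of_lt_of_le (CharP.char_is_prime (fld σ) p).one_lt (Nat.le_of_dvd hpos hdvd)
  obtain ⟨x, hx⟩ := Fintype.exists_ne_of_one_lt_card h2 ⟨0, hmem⟩
  refine ⟨b.equivFun.symm x.1, fun e => hx (Subtype.ext (b.equivFun.symm.map_eq_zero_iff.1 e)), ?_⟩
  rw [← hkey, x.2]; rfl

end HForm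

end CfsgLib.FieldMax.Unitary
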