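import Cfsg.Agent.Lib.FieldMax.Unitary.Spread
import Mathlib.RingTheory.Norm.Basic

/-!
Diagonal isometries over the extension with determinant of norm one.
-/

set_option autoImplicit false
set_option linter.unusedSectionVars false
set_option linter.style.haveILetI false

namespace CfsgLib.FieldMax.Unitary

variable {F L V : Type*} [Field F] [Field L] [Algebra F L] [AddCommGroup V] [Module F V] [Module L V]
  [IsScalarTower F L V]
variable {σ : F →+* F} {τ : L →+* L} {β : V → V → L} {ε : Module.Dual F L}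
variable [Fintype F] [FiniteDimensional F L] [FiniteDimensional L V] [FiniteDimensional F V]

/-- All isometries over the extension with determinant of norm one are in the group. -/
def HasSU (F L : Type*) {V : Type*} [Field F] [Field L] [Algebra F L] [AddCommGroup V] [Module F V] [Module L V]
    [IsScalarTower F L V] (β : V → V → L) (M : Subgroup (Module.End F V)ˣ) : Prop :=
  ∀ f : V →ₗ[L] V, (∀ u v, β (f u) (f v) = β u v) → Algebra.norm F (LinearMap.det f) = 1 →
    ∃ u ∈ M, (u : Module.End F V) = f.restrictScalars F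

variable {M : Subgroup (Module.End F V)ˣ}

namespace HForm

variable (hf : HForm σ τ β ε)

include hf

theorem norm_tau (x : L) : Algebra.norm F (τ x) = σ (Algebra.norm F x) := by
  have hσ : Function.Bijective σ := Function.Involutive.bijective hf.sinv
  have hτ : Function.Bijective τ := Function.Involutive.bijective hf.tinv
  have h := Algebra.norm_eq_of_equiv_equiv (A₁ := F) (B₁ := L) (A₂ := F) (B₂ := L) (RingEquiv.ofBijective σ hσ)
    (RingEquiv.ofBijective τ hτ) (RingHom.ext fun c => (hf.talg c).symm) x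
  have h' := congrArg (RingEquiv.ofBijective σ hσ) h
  rw [RingEquiv.apply_symm_apply] at h'
  exact h'.symm

omit [Fintype F] in
theorem uext_of_hasSU (hM : HasSU F L β M)
    (hiso : ∀ g ∈ M, ∀ u v, tf β ε ((g : Module.End F V) u) ((g : Module.End F V) v) = tf β ε u v) :
    UExt hf M := by
  refine ⟨hiso, fun a b c ha hba hc => ?_⟩
  have hab : β a b = 0 := hf.zero_symm hba
  obtain ⟨u, hu, e⟩ := hM (LinearMap.transvection (blin hf a) b ∘ₗ
      LinearMap.transvection (c • blin hf a - blin hf b) a) (fun u v => by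
    simp only [LinearMap.comp_apply, LinearMap.transvection.apply, blin_apply, LinearMap.sub_apply,
      LinearMap.smul_apply, smul_eq_mul, hf.add_left, hf.add_right, hf.smul_left, hf.smul_right, map_sub, map_mul,
      map_add, map_zero, ha, hba, hab, mul_zero, zero_mul, add_zero]
    rw [← hf.herm v a, ← hf.herm v b]
    linear_combination (β u a * β a v) * hc) (by
    rw [LinearMap.det_comp, LinearMap.transvection.det, LinearMap.transvection.det]
    simp [ha, hba, hab])
  refine ⟨u, hu, LinearMap.ext fun v => ?_⟩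
  simp only [e, LinearMap.coe_restrictScalars, LinearMap.comp_apply, LinearMap.transvection.apply,
    LinearMap.add_apply, Module.End.one_apply, sie_apply, blin_apply, LinearMap.sub_apply, LinearMap.smul_apply,
    smul_eq_mul, hf.add_left, hf.smul_left, ha, mul_zero, add_zero]
  abel

omit [Fintype F] in
/-- A diagonal isometry. -/
theorem exists_diag (hM : HasSU F L β M) {a b e : V} (ha : β a a = 0) (hb : β b b = 0) (hba : β b a = 1)
    (hea : β e a = 0) (heb : β e b = 0) {s t x : L} (hst : s * τ t = 1) (hx : x + τ x + x * τ x * β e e = 0)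
    (hdet : Algebra.norm F (s * t * (1 + x * β e e)) = 1) :
    ∃ u ∈ M, ∀ y : L, (u : Module.End F V) (y • a) = (y * s) • a := by
  have hab : β a b = 1 := by rw [hf.herm, hba, map_one]
  have hae := hf.zero_symm hea
  have hbe := hf.zero_symm heb
  have hts : τ s * t = 1 := by
    have := congrArg τ hst
    rwa [map_mul, hf.tinv, map_one] at this
  obtain ⟨u, hu, ef⟩ := hM (LinearMap.transvection (blin hf b) ((s - 1) • a) ∘ₗ
      LinearMap.transvection (blin hf a) ((t - 1) • b) ∘ₗ LinearMap.transvection (blin hf e) (x • e)) (fun u v => by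
    simp only [LinearMap.comp_apply, LinearMap.transvection.apply, blin_apply, hf.add_left, hf.add_right,
      hf.smul_left, hf.smul_right, map_sub, map_mul, map_add, map_one, ha, hb, hab, hba, hea, heb, hae, hbe, mul_zero,
      zero_mul, map_zero, add_zero, zero_add]
    rw [← hf.herm v a, ← hf.herm v b, ← hf.herm v e]
    linear_combination (β u b * β a v) * hst + (β u a * β b v) * hts + (β u e * β e v) * hx) (by
    rw [LinearMap.det_comp, LinearMap.det_comp, LinearMap.transvection.det, LinearMap.transvection.det,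
      LinearMap.transvection.det]
    simp only [blin_apply, hf.smul_left, hab, hba, mul_one, add_sub_cancel, ← mul_assoc]
    exact hdet)
  refine ⟨u, hu, fun y => ?_⟩
  simp [ef, LinearMap.transvection.apply, hf.smul_left, hf.add_left, ha, hab, hae, smul_smul, ← add_smul]
  ring_nf

omit [Fintype F] in
/-- Scalars along a line from a third dimension. -/
theorem exists_scal_big (hM : HasSU F L β M) (hk : 3 ≤ Module.finrank L V) {a : V} (ha0 : a ≠ 0) (ha : β a a = 0)
    [Fintype F] {s : L} (hs : s ≠ 0) : ∃ u ∈ M, ∀ y : L, (u : Module.End F V) (y • a) = (y * s) • a := by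
  obtain ⟨b, hb, hba⟩ := hf.exists_iso_partner ha0 ha 1
  have hab : β a b = 1 := by rw [hf.herm, hba, map_one]
  obtain ⟨e, hea, heb, hee⟩ : ∃ e, β e a = 0 ∧ β e b = 0 ∧ β e e ≠ 0 := by
    by_contra hcon
    push Not at hcon
    obtain ⟨e, he, he0⟩ := (LinearMap.ker ((blin hf a).prod (blin hf b))).exists_mem_ne_zero_of_ne_bot fun e => by
      have := LinearMap.finrank_le_finrank_of_injective (LinearMap.ker_eq_bot.1 e)
      rw [Module.finrank_prod, Module.finrank_self] at this
      omega
    have hea : β e a = 0 := congrArg Prod.fst (LinearMap.mem_ker.1 he)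
    have heb : β e b = 0 := congrArg Prod.snd (LinearMap.mem_ker.1 he)
    refine he0 (hf.nondeg e fun z => ?_)
    set z' := z - β z b • a - β z a • b with hz'
    have hz'a : β z' a = 0 := by simp [hz', hf.sub_left, hf.smul_left, ha, hba]
    have hz'b : β z' b = 0 := by simp [hz', hf.sub_left, hf.smul_left, hb, hab]
    have hez : β e z = β e z' := by simp [hz', hf.sub_right, hf.smul_right, hea, heb]
    rw [hez]
    by_contra hne
    have hne' : β z' e ≠ 0 := fun h => hne (hf.zero_symm h)
    obtain ⟨ω, hω, -⟩ := hf.exists_omega'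
    have h1 := hcon (e + (ω / β z' e) • z') (by rw [hf.add_left, hf.smul_left, hea, hz'a, mul_zero, add_zero])
      (by rw [hf.add_left, hf.smul_left, heb, hz'b, mul_zero, add_zero])
    simp only [hf.add_left, hf.add_right, hf.smul_left, hf.smul_right, hcon e hea heb, hcon z' hz'a hz'b, mul_zero,
      add_zero, zero_add] at h1
    rw [map_div₀, ← hf.herm, div_mul_cancel₀ _ hne', div_mul_cancel₀ _ hne, add_comm, hω] at h1
    exact one_ne_zero h1
  have hτs := hf.t_ne hs
  have hν := hf.self_fixed e
  refine hf.exists_diag hM ha hb hba hea heb (t := (τ s)⁻¹) (x := (τ s / s - 1) / β e e) ?_ ?_ ?_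
  · rw [map_inv₀, hf.tinv, mul_inv_cancel₀ hs]
  · rw [map_div₀, map_sub, map_div₀, hf.tinv, map_one, hν]
    field_simp
    ring
  · rw [show s * (τ s)⁻¹ * (1 + (τ s / s - 1) / β e e * β e e) = 1 by field_simp; ring, map_one]

omit [Fintype F] in
/-- Scalars with rational norm along a line. -/
theorem exists_scal_small (hM : HasSU F L β M) [Fintype F] {a : V} (ha0 : a ≠ 0) (ha : β a a = 0) {s : L}
    (hs : σ (Algebra.norm F s) = Algebra.norm F s) (hs0 : s ≠ 0) :
    ∃ u ∈ M, ∀ y : L, (u : Module.End F V) (y • a) = (y * s) • a := by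
  obtain ⟨b, hb, hba⟩ := hf.exists_iso_partner ha0 ha 1
  refine hf.exists_diag hM (e := 0) ha hb hba (hf.zero_left _) (hf.zero_left _) (t := (τ s)⁻¹) (x := 0) ?_ (by simp) ?_
  · rw [map_inv₀, hf.tinv, mul_inv_cancel₀ hs0]
  · have hinv : Algebra.norm F (τ s)⁻¹ = (Algebra.norm F (τ s))⁻¹ :=
      eq_inv_of_mul_eq_one_left (by rw [← map_mul, inv_mul_cancel₀ (hf.t_ne hs0), map_one])
    rw [zero_mul, add_zero, mul_one, map_mul, hinv, hf.norm_tau, hs,
      mul_inv_cancel₀ (Algebra.norm_ne_zero_iff.2 hs0)]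

theorem card_fld : Nat.card (fld σ) ^ 2 = Fintype.card F := by
  rw [← Nat.card_eq_fintype_card, Module.natCard_eq_pow_finrank (K := fld σ) (V := F), hf.finrank_fld]

theorem two_le_card_fld : 2 ≤ Nat.card (fld σ) := Finite.one_lt_card

theorem card_L : Nat.card L = (Nat.card (fld σ) ^ Module.finrank F L) ^ 2 := by
  rw [Module.natCard_eq_pow_finrank (K := F) (V := L), Nat.card_eq_fintype_card, ← hf.card_fld, ← pow_mul, ← pow_mul,
    Nat.mul_comm]

theorem card_fixL : Nat.card hf.fixL = Nat.card (fld σ) ^ Module.finrank F L := by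
  haveI : FiniteDimensional (fld σ) L := Module.Finite.trans F L
  rw [Module.natCard_eq_pow_finrank (K := fld σ) (V := hf.fixL), hf.finrank_fixL]

/-- Products of the two fixed fields do not fill the extension. -/
theorem exists_not_product : ∃ s : L, ∀ (f : F) (l : L), τ l = l → s ≠ f • l := by
  haveI : Finite L := Module.finite_of_finite F
  by_contra hcon
  push Not at hcon
  have h := Nat.card_le_card_of_surjective (fun p : F × hf.fixL => p.1 • (p.2 : L)) fun s => by
    obtain ⟨f, l, hl, e⟩ := hcon s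
    exact ⟨(f, ⟨l, hl⟩), e.symm⟩
  have hF : Nat.card F = Nat.card (fld σ) ^ 2 := by rw [Nat.card_eq_fintype_card, hf.card_fld]
  rw [Nat.card_prod, hf.card_fixL, hf.card_L, hF, ← pow_add, ← pow_mul] at h
  have hr := hf.prime.two_le
  rcases eq_or_lt_of_le hr with h4 | h4
  · exact absurd hf.odd (by rw [← h4]; decide)
  have := Nat.pow_lt_pow_right hf.two_le_card_fld (show 2 + Module.finrank F L < Module.finrank F L * 2 by omega)
  omega

/-- A norm-one multiplier outside the base field. -/
theorem exists_unit_twist (hex : ¬ (Nat.card (fld σ) = 2 ∧ Module.finrank F L = 3)) :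
    ∃ s : L, s ≠ 0 ∧ Algebra.norm F s = 1 ∧ ∀ (f : F) (l : L), τ l = l → s ≠ f • l := by
  classical
  haveI : Finite L := Module.finite_of_finite F
  set q := Nat.card (fld σ) with hq
  set r := Module.finrank F L with hr
  have hq2 : 2 ≤ q := hf.two_le_card_fld
  let Nτ : Lˣ →* Lˣ := MonoidHom.id Lˣ * Units.map τ.toMonoidHom
  have hNτ : ∀ t : Lˣ, (Nτ t : L) = t * τ t := fun t => rfl
  have h1 : Nat.card Lˣ ≤ Nat.card Nτ.ker * (q ^ r - 1) := by
    rw [← Subgroup.card_mul_index Nτ.ker, Subgroup.index_ker]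
    refine Nat.mul_le_mul_left _ ?_
    let g : Nτ.range → {x : hf.fixL // x ≠ 0} := fun y => ⟨⟨((y : Lˣ) : L), by
      obtain ⟨t, ht⟩ := y.2
      show τ _ = _
      rw [← ht, hNτ, map_mul, hf.tinv, mul_comm]⟩, fun e => (y : Lˣ).ne_zero (congrArg Subtype.val e)⟩
    refine (Nat.card_le_card_of_injective g fun y z e => Subtype.ext (Units.ext ?_)).trans (le_of_eq ?_)
    · exact congrArg (fun w : {x : hf.fixL // x ≠ 0} => ((w : hf.fixL) : L)) e
    · have h : Nat.card {x : hf.fixL // x ≠ 0} + 1 = Nat.card hf.fixL := by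
        rw [← Finite.card_option]
        exact Nat.card_congr (Equiv.optionSubtypeNe (0 : hf.fixL))
      rw [hf.card_fixL, ← hq, ← hr] at h
      omega
  rw [Nat.card_units, hf.card_L, ← hq, ← hr] at h1
  have hQ : q ^ r + 1 ≤ Nat.card Nτ.ker := by
    have h2 : (q ^ r) ^ 2 - 1 = (q ^ r + 1) * (q ^ r - 1) := by
      rw [← Nat.sq_sub_sq]
    rw [h2] at h1
    refine Nat.le_of_mul_le_mul_right h1 ?_
    have := Nat.one_lt_pow (show r ≠ 0 from hf.prime.pos.ne') hq2
    omega
  let N : Nτ.ker →* Fˣ := (Units.map (Algebra.norm F (S := L))).comp Nτ.ker.subtype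
  have hfixed : ∀ x : F, x * σ x = 1 → x ^ (q + 1) = 1 := by
    intro x hx
    have hx0 : x ≠ 0 := fun e => by rw [e, zero_mul] at hx; exact zero_ne_one hx
    let Nσ : Fˣ →* Fˣ := MonoidHom.id Fˣ * Units.map σ.toMonoidHom
    have hH : Nat.card Nσ.ker ∣ q + 1 := by
      have hF : Nat.card Fˣ = (q + 1) * (q - 1) := by
        rw [Nat.card_units, Nat.card_eq_fintype_card, ← hf.card_fld, ← hq, ← Nat.sq_sub_sq]
      have hrange : Nat.card Nσ.range = q - 1 := by
        let g : Nσ.range → (fld σ)ˣ := fun y => Units.mk0 ⟨((y : Fˣ) : F), by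
          obtain ⟨t, ht⟩ := y.2
          show σ _ = _
          rw [← ht]
          show σ ((t : F) * σ t) = (t : F) * σ t
          rw [map_mul, hf.sinv, mul_comm]⟩ fun e => (y : Fˣ).ne_zero (congrArg Subtype.val e)
        have hg : Function.Bijective g := by
          refine ⟨fun y z e => Subtype.ext (Units.ext (congrArg (fun w : (fld σ)ˣ => ((w : fld σ) : F)) e)), fun w => ?_⟩
          have hw : τ (algebraMap F L ((w : fld σ) : F)) = algebraMap F L ((w : fld σ) : F) := by
            rw [hf.talg, show σ ((w : fld σ) : F) = ((w : fld σ) : F) from (w : fld σ).2]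
          obtain ⟨s, hs⟩ := hf.exists_norm hw
          -- norms of the base field fill its fixed field
          obtain ⟨t, ht⟩ : ∃ t : F, t * σ t = ((w : fld σ) : F) := by
            refine ⟨(Algebra.norm F s) / ((w : fld σ) : F) ^ ((r - 1) / 2), ?_⟩
            have hw0 : ((w : fld σ) : F) ≠ 0 := fun e => w.ne_zero (Subtype.ext e)
            have e := congrArg (Algebra.norm F) hs
            rw [map_mul, hf.norm_tau, Algebra.norm_algebraMap, ← hr] at e
            rw [map_div₀, map_pow, show σ ((w : fld σ) : F) = ((w : fld σ) : F) from (w : fld σ).2, div_mul_div_comm,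
              e, ← pow_add]
            obtain ⟨m, hm⟩ := hf.odd
            rw [← hr] at hm
            rw [show (r - 1) / 2 + (r - 1) / 2 = 2 * m by omega, hm, pow_succ', mul_div_assoc,
              div_self (pow_ne_zero _ hw0), mul_one]
          have ht0 : t ≠ 0 := fun e => w.ne_zero (Subtype.ext (by rw [← ht, e, zero_mul]; rfl))
          exact ⟨⟨_, Units.mk0 t ht0, rfl⟩, Units.ext (Subtype.ext ht)⟩
        rw [Nat.card_congr (Equiv.ofBijective g hg), Nat.card_units]
      have h3 := Subgroup.card_mul_index Nσ.ker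
      rw [Subgroup.index_ker, hrange, hF] at h3
      exact dvd_of_eq (Nat.eq_of_mul_eq_mul_right (by omega) h3)
    have hm : Units.mk0 x hx0 ∈ Nσ.ker := Units.ext hx
    obtain ⟨m, hm'⟩ := hH
    have := congrArg Subtype.val (pow_card_eq_one' (x := (⟨_, hm⟩ : Nσ.ker)))
    have h4 := congrArg Units.val this
    simp only [SubmonoidClass.coe_pow, Units.val_pow_eq_pow_val, Units.val_mk0, OneMemClass.coe_one, Units.val_one]
      at h4
    rw [hm', pow_mul, h4, one_pow]
  have hsmall : Nat.card {x : F // x ^ (q + 1) = 1} ≤ q + 1 := by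
    rw [Nat.subtype_card (Polynomial.nthRootsFinset (q + 1) (1 : F)) (fun x => by
      rw [Polynomial.mem_nthRootsFinset (by omega)])]
    exact (Multiset.toFinset_card_le _).trans (Polynomial.card_nthRoots _ _)
  have h2 : Nat.card N.range ≤ q + 1 := by
    let g : N.range → {x : F // x ^ (q + 1) = 1} := fun y => ⟨((y : Fˣ) : F), hfixed _ (by
      obtain ⟨t, ht⟩ := y.2
      rw [← ht]
      show Algebra.norm F ((t : Lˣ) : L) * σ (Algebra.norm F ((t : Lˣ) : L)) = 1
      rw [← hf.norm_tau, ← map_mul, ← hNτ, show Nτ (t : Lˣ) = 1 from t.2, Units.val_one, map_one])⟩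
    exact (Nat.card_le_card_of_injective g fun y z e =>
      Subtype.ext (Units.ext (congrArg Subtype.val e))).trans hsmall
  have h3 : Nat.card Nτ.ker ≤ Nat.card N.ker * (q + 1) := by
    rw [← Subgroup.card_mul_index N.ker, Subgroup.index_ker]
    exact Nat.mul_le_mul_left _ h2
  have hbig : q + 1 < Nat.card N.ker := by
    by_contra hle
    push Not at hle
    have h4 : q ^ r + 1 ≤ (q + 1) * (q + 1) := hQ.trans (h3.trans (Nat.mul_le_mul_right _ hle))
    rcases eq_or_lt_of_le (hf.prime.two_le) with h5 | h5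
    · exact absurd hf.odd (by rw [← h5]; decide)
    rw [← hr] at h5
    by_cases hr3 : r = 3
    · have hq3 : 3 ≤ q := by omega
      rw [hr3] at h4
      nlinarith [Nat.mul_le_mul_right q (Nat.mul_le_mul_right q hq3)]
    · have : q ^ 4 ≤ q ^ r := Nat.pow_le_pow_right (by omega) (by omega)
      nlinarith [Nat.mul_le_mul (Nat.mul_le_mul hq2 hq2) (le_refl (q * q))]
  obtain ⟨μ, hμ⟩ : ∃ μ : N.ker, (((μ : Nτ.ker) : Lˣ) : L) ∉ Set.range (algebraMap F L) := by
    by_contra hcon
    push Not at hcon
    choose g hg using hcon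
    have hgq : ∀ μ, g μ ^ (q + 1) = 1 := fun μ => hfixed _ (by
      apply (algebraMap F L).injective
      rw [map_mul, ← hf.talg, hg, map_one, ← hNτ, show Nτ ((μ : Nτ.ker) : Lˣ) = 1 from (μ : Nτ.ker).2, Units.val_one])
    have := (Nat.card_le_card_of_injective (fun μ => (⟨g μ, hgq μ⟩ : {x : F // x ^ (q + 1) = 1}))
      fun μ ν e => Subtype.ext (Subtype.ext (Units.ext (by
        rw [← hg μ, ← hg ν, show g μ = g ν from congrArg Subtype.val e])))).trans hsmall
    omega
  refine ⟨(((μ : Nτ.ker) : Lˣ) : L), Units.ne_zero _, congrArg Units.val μ.2, fun f l hl e => hμ ?_⟩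
  have hnorm : (((μ : Nτ.ker) : Lˣ) : L) * τ (((μ : Nτ.ker) : Lˣ) : L) = 1 := by
    rw [← hNτ, show Nτ ((μ : Nτ.ker) : Lˣ) = 1 from (μ : Nτ.ker).2, Units.val_one]
  rw [e, hf.tau_smul, hl, smul_mul_smul_comm] at hnorm
  have hl2 : l ^ 2 ∈ (⊥ : Subalgebra F L) := by
    rw [Algebra.mem_bot]
    refine ⟨(f * σ f)⁻¹, ?_⟩
    have hne : f * σ f ≠ 0 := fun e' => by rw [e', zero_smul] at hnorm; exact zero_ne_one hnorm
    rw [Algebra.algebraMap_eq_smul_one, ← hnorm, inv_smul_smul₀ hne, sq]
  have hl1 : l ∈ (⊥ : Subalgebra F L) := by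
    haveI := Subalgebra.isSimpleOrder_of_finrank_prime F L hf.prime
    rcases IsSimpleOrder.eq_bot_or_eq_top (Algebra.adjoin F ({l} : Set L)) with h | h
    · exact h ▸ Algebra.subset_adjoin rfl
    exfalso
    let S : Submodule F L := Submodule.span F {1, l}
    have hle : Subalgebra.toSubmodule (Algebra.adjoin F ({l} : Set L)) ≤ S := by
      obtain ⟨c, hc⟩ := Algebra.mem_bot.1 hl2
      have hS1 : (1 : L) ∈ S := Submodule.subset_span (by simp)
      have hSl : l ∈ S := Submodule.subset_span (by simp)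
      have hmul : ∀ x ∈ S, l * x ∈ S := fun x hx => by
        obtain ⟨a, b, rfl⟩ := Submodule.mem_span_pair.1 hx
        rw [mul_add, mul_smul_comm, mul_smul_comm, mul_one, ← sq, ← hc, Algebra.algebraMap_eq_smul_one, smul_smul]
        exact S.add_mem (S.smul_mem _ hSl) (S.smul_mem _ hS1)
      rw [Algebra.adjoin_eq_span, Submodule.span_le]
      intro x hx
      induction hx using Submonoid.closure_induction_left with
      | one => exact hS1
      | mul_left y hy z _ ih =>
        rw [Set.mem_singleton_iff] at hy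
        subst hy
        exact hmul z ih
    rw [h, Algebra.top_toSubmodule] at hle
    have h5 := Submodule.finrank_mono hle
    rw [finrank_top] at h5
    have h6 : Module.finrank F S ≤ 2 :=
      (finrank_span_le_card ({1, l} : Set L)).trans (by
        rw [Set.toFinset_insert, Set.toFinset_singleton]; exact Finset.card_le_two)
    have := hf.prime.two_le
    rcases eq_or_lt_of_le this with h7 | h7
    · exact absurd hf.odd (by rw [← h7]; decide)
    omega
  obtain ⟨c, rfl⟩ := Algebra.mem_bot.1 hl1
  exact ⟨f * c, by rw [e, map_mul, ← Algebra.smul_def]⟩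

theorem twist_of_hasSU (hM : HasSU F L β M)
    (hex : ¬ (Nat.card (fld σ) = 2 ∧ Module.finrank F L = 3 ∧ Module.finrank L V = 2)) : Twist F L τ β M := by
  intro a ha0 ha
  by_cases hk : 3 ≤ Module.finrank L V
  · obtain ⟨s, hs⟩ := hf.exists_not_product
    have hs0 : s ≠ 0 := fun e => hs 0 1 (map_one τ) (by rw [e, zero_smul])
    obtain ⟨u, hu, hua⟩ := hf.exists_scal_big hM hk ha0 ha hs0
    exact ⟨u, hu, s, hua, hs⟩
  · obtain ⟨s, hs0, hsN, hs⟩ := hf.exists_unit_twist fun h => hex ⟨h.1, h.2, by have := hf.dim; omega⟩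
    obtain ⟨u, hu, hua⟩ := hf.exists_scal_small hM ha0 ha (s := s) (by rw [hsN, map_one]) hs0
    exact ⟨u, hu, s, hua, hs⟩

theorem scal_of_hasSU (hM : HasSU F L β M) (hq : Nat.card (fld σ) = 2)
    (hex : ¬ (Module.finrank F L = 3 ∧ Module.finrank L V = 2)) : Scal F L β M := by
  intro a ha0 ha s hs
  by_cases hk : 3 ≤ Module.finrank L V
  · obtain ⟨u, hu, hua⟩ := hf.exists_scal_big hM hk ha0 ha hs
    exact ⟨u, hu, 1, one_ne_zero, fun x => by rw [hua, one_smul]⟩
  have hr : Nat.Coprime (Nat.card Fˣ) (Module.finrank F L) := by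
    rw [Nat.card_units, Nat.card_eq_fintype_card, ← hf.card_fld, hq]
    exact (Nat.coprime_primes (by norm_num) hf.prime).2 fun e => hex ⟨e.symm, by have := hf.dim; omega⟩
  obtain ⟨f, hf'⟩ := (powCoprime hr).surjective (Units.mk0 _ (Algebra.norm_ne_zero_iff.2 hs))⁻¹
  have hN : Algebra.norm F ((f : F) • s) = 1 := by
    rw [Algebra.smul_def, map_mul, Algebra.norm_algebraMap]
    have := congrArg Units.val hf'
    simp only [powCoprime_apply, Units.val_pow_eq_pow_val, Units.val_inv_eq_inv_val, Units.val_mk0] at this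
    rw [this, inv_mul_cancel₀ (Algebra.norm_ne_zero_iff.2 hs)]
  obtain ⟨u, hu, hua⟩ := hf.exists_scal_small hM ha0 ha (s := (f : F) • s) (by rw [hN, map_one])
    (smul_ne_zero f.ne_zero hs)
  exact ⟨u, hu, f, f.ne_zero, fun x => by rw [hua, mul_smul_comm]⟩

/-- A group with all the isometries of norm one and a map outside the normaliser has all transvections. -/
theorem full_of_hasSU (hM : HasSU F L β M)
    (hiso : ∀ g ∈ M, ∀ u v, tf β ε ((g : Module.End F V) u) ((g : Module.End F V) v) = tf β ε u v)
    (hex : ¬ (Nat.card (fld σ) = 2 ∧ Module.finrank F L = 3 ∧ Module.finrank L V = 2))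
    {u : (Module.End F V)ˣ} (hu : u ∈ M)
    (hn : ¬ ∀ s : L, ∃ t : L, ∀ v : V, (u : Module.End F V) (s • v) = t • (u : Module.End F V) v)
    {x : V} (hx : tf β ε x x = 0) : Full hf M x := by
  have hU := hf.uext_of_hasSU hM hiso
  obtain ⟨g, hg, a, ha0, ha, hne, hk⟩ := hU.exists_touching hu hn
  have hq : (∃ l : F, σ l = l ∧ l ≠ 0 ∧ l ≠ 1) ∨ Scal F L β M := by
    by_cases h2 : Nat.card (fld σ) = 2
    · exact Or.inr (hf.scal_of_hasSU hM h2 fun h => hex ⟨h2, h⟩)
    refine Or.inl ?_
    by_contra hcon
    push Not at hcon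
    refine h2 (le_antisymm ?_ hf.two_le_card_fld)
    have h : Function.Surjective (fun b : Bool => if b then (1 : fld σ) else 0) := fun x => by
      by_cases hx0 : (x : F) = 0
      · exact ⟨false, by simp; exact Subtype.ext hx0.symm⟩
      · exact ⟨true, by simp; exact Subtype.ext (hcon x x.2 hx0).symm⟩
    simpa using Nat.card_le_card_of_surjective _ h
  obtain ⟨b, hb0, hb, hfull⟩ := hU.full_of_touching hq hg ha0 ha hne hk
  exact hU.full_all (hf.twist_of_hasSU hM hex) hb0 hb hfull hx

end HForm

end CfsgLib.FieldMax.Unitary
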