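import Cfsg.Agent.Lib.FieldMax.Unitary.Bigger

/-!
Touching isotropic lines give all transvections with one centre.
-/

set_option autoImplicit false
set_option linter.unusedSectionVars false
set_option linter.style.haveILetI false

namespace CfsgLib.FieldMax.Unitary

variable {F L V : Type*} [Field F] [Field L] [Algebra F L] [AddCommGroup V] [Module F V] [Module L V]
  [IsScalarTower F L V]
variable {σ : F →+* F} {τ : L →+* L} {β : V → V → L} {ε : Module.Dual F L}
variable [Fintype F] [FiniteDimensional F L] [FiniteDimensional L V] [FiniteDimensional F V]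

/-- Scalars along the isotropic lines, up to the base field. -/
def Scal (F L : Type*) {V : Type*} [Field F] [Field L] [Algebra F L] [AddCommGroup V] [Module F V] [Module L V]
    (β : V → V → L) (M : Subgroup (Module.End F V)ˣ) : Prop :=
  ∀ a : V, a ≠ 0 → β a a = 0 → ∀ s : L, s ≠ 0 →
    ∃ u ∈ M, ∃ f : F, f ≠ 0 ∧ ∀ x : L, (u : Module.End F V) (x • a) = (f • (x * s)) • a

/-- A root element conjugated. -/
noncomputable def cop (hf : HForm σ τ β ε) (g : (Module.End F V)ˣ) (k : L) (a : V) : Module.End F V :=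
  (g : Module.End F V) * lin1 (k • blin hf a) a * ((g⁻¹ : (Module.End F V)ˣ) : Module.End F V)

theorem cop_apply (hf : HForm σ τ β ε) (g : (Module.End F V)ˣ) (k : L) (a v : V) :
    cop hf g k a v = (g : Module.End F V) ((k * β (((g⁻¹ : (Module.End F V)ˣ) : Module.End F V) v) a) • a) := by
  simp [cop, Module.End.mul_apply]

namespace UExt

variable {hf : HForm σ τ β ε} {M : Subgroup (Module.End F V)ˣ} (hM : UExt hf M)

include hM

theorem mem_lin {a : V} {k : L} (ha : β a a = 0) (hk : k + τ k = 0) : Mem M (lin1 (k • blin hf a) a) := by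
  obtain ⟨u, hu, -, e⟩ := hM.root ha hk
  exact ⟨u, hu, LinearMap.ext fun v => by simp [e]⟩

omit hM in
theorem mem_zero_skew {x : L} (h : x + τ x = 0) : τ x = -x := eq_neg_of_add_eq_zero_right h

theorem cop_mem {g : (Module.End F V)ˣ} (hg : g ∈ M) {a : V} {k : L} (ha : β a a = 0) (hk : k + τ k = 0) :
    Mem M (cop hf g k a) := (hM.mem_lin ha hk).conj hg

theorem cop_sq (g : (Module.End F V)ˣ) {a : V} {k : L} (ha : β a a = 0) : cop hf g k a * cop hf g k a = 0 := by
  ext v
  simp [Module.End.mul_apply, cop_apply, inv_apply_apply, hf.smul_left, ha]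

theorem cop_range (g : (Module.End F V)ˣ) (a v : V) (k : L) :
    cop hf g k a v ∈ (line F L a).map (g : Module.End F V) := by
  rw [cop_apply]
  exact Submodule.mem_map_of_mem (smul_mem_line a _)

theorem cop_skew {g : (Module.End F V)ˣ} (hg : g ∈ M) {a : V} {k : L} (hk : k + τ k = 0) (u v : V) :
    tf β ε (cop hf g k a u) v = -tf β ε u (cop hf g k a v) := by
  rw [cop_apply, cop_apply, hM.iso_inv hg]
  conv_rhs => rw [← apply_inv_apply g u, hM.iso g hg]
  rw [tf, tf, hf.smul_left, hf.smul_right, map_mul τ, mem_zero_skew hk, ← map_neg]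
  congr 1
  rw [← hf.herm]
  ring

theorem cop_eq {g : (Module.End F V)ˣ} (hg : g ∈ M) {a : V} {k : L} {u u' : V}
    (h : ∀ y ∈ (line F L a).map (g : Module.End F V), tf β ε u y = tf β ε u' y) :
    cop hf g k a u = cop hf g k a u' := by
  rw [cop_apply, cop_apply]
  congr 3
  by_contra hne
  refine hf.eps (LinearMap.ext fun x => ?_)
  set d := β (((g⁻¹ : (Module.End F V)ˣ) : Module.End F V) u) a - β (((g⁻¹ : (Module.End F V)ˣ) : Module.End F V) u') a
    with hd
  have hd0 : d ≠ 0 := sub_ne_zero.2 hne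
  have := h _ (Submodule.mem_map_of_mem (smul_mem_line a (τ (x / d))))
  rw [← apply_inv_apply g u, ← apply_inv_apply g u', hM.iso g hg, hM.iso g hg, tf, tf, hf.smul_right, hf.smul_right,
    hf.tinv, ← sub_eq_zero, ← map_sub, ← mul_sub, ← hd, div_mul_cancel₀ _ hd0] at this
  exact this

omit hM in
theorem sgl_self {a : V} (f : F) : sgl hf a (f • a) 0 = sgl hf a 0 (f - σ f) := by
  ext v
  simp only [sgl_apply, hf.h_smul_right, hf.h_zero_right]
  module

/-- A Siegel element off the line gives a full centre. -/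
theorem full_of_point {a p : V} {e : F} (ha : β a a = 0) (hp : β p a = 0) (hpa : p ∉ line F L a)
    (h : Mem M (sgl hf a p e)) : Full hf M a := by
  have haa : tf β ε a a = 0 := by rw [tf, ha, map_zero]
  have hpa' : tf β ε p a = 0 := by rw [tf, hp, map_zero]
  have key : ∀ t : L, Mem M (sgl hf a (t • a) 0) := fun t => by
    obtain ⟨μ, hμ, hμp⟩ := exists_form_eq (L := L) (P := L ∙ a) hpa (-t)
    obtain ⟨b, hb⟩ := hf.exists_rep μ
    have hba : β b a = 0 := hf.zero_symm (by rw [hb, hμ a (Submodule.mem_span_singleton_self a)])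
    obtain ⟨c, hc⟩ := hf.exists_trace (x := -β b b) (by rw [map_neg, hf.self_fixed])
    obtain ⟨x, hx, ex⟩ := hM.sieg a b c ha hba (by rw [hc, neg_add_cancel])
    have hxa : (x : Module.End F V) a = a := by
      simp [ex, sie_apply, ha, hf.zero_symm hba]
    have hxp : (x : Module.End F V) p = p + t • a := by
      simp [ex, sie_apply, hp, hb, hμp]
    have h' := hM.sgl_conj hx h
    rw [hxa, hxp] at h'
    have hta : tf β ε p (t • a) = 0 := by rw [tf, hf.smul_right, hp, mul_zero, map_zero]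
    convert mem_sgl_add h' (mem_sgl_neg h haa hpa') haa (by
      rw [tf, hf.add_left, hf.smul_left, hp, ha, mul_zero, add_zero, map_zero]) (by rw [hf.h_neg_left, hpa', neg_zero])
      using 2
    · abel
    · rw [hf.h_neg_left, hf.h_add_right, hta]; ring
  intro e₀ he₀
  obtain ⟨ω, hω, -⟩ := hf.exists_omega
  have := key (algebraMap F L (ω * e₀))
  rw [algebraMap_smul, sgl_self] at this
  convert this using 2
  rw [map_mul]
  linear_combination σ ω * he₀ - e₀ * hω

/-- A touching pair with a perpendicular image gives a full centre. -/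
theorem full_perp {g : (Module.End F V)ˣ} (hg : g ∈ M) {a w : V} (ha0 : a ≠ 0) (ha : β a a = 0)
    (hw : w ∈ (line F L a).map (g : Module.End F V)) (hwA : w ∉ line F L a) (hwa : β w a = 0)
    (hsplit : ∀ y ∈ (line F L a).map (g : Module.End F V),
      ∃ z ∈ line F L a ⊓ (line F L a).map (g : Module.End F V), ∃ μ : F, y = z + μ • w) :
    Full hf M a := by
  set B := (line F L a).map (g : Module.End F V) with hB
  set Z := line F L a ⊓ B with hZ
  obtain ⟨μ, hμ, hμw⟩ := exists_form_eq (L := L) (P := L ∙ a) hwA 1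
  obtain ⟨b, hb⟩ := hf.exists_rep μ
  have hab : β a b = 0 := by rw [hb]; exact hμ a (Submodule.mem_span_singleton_self a)
  have hba : β b a = 0 := hf.zero_symm hab
  have hwb : β w b = 1 := by rw [hb, hμw]
  have hbw : β b w = 1 := by rw [hf.herm, hwb, map_one]
  have hBa : ∀ y ∈ B, β y a = 0 := fun y hy => by
    obtain ⟨z, hz, m, rfl⟩ := hsplit y hy
    obtain ⟨s, rfl⟩ := mem_line.1 hz.1
    rw [hf.add_left, hf.smul_left, hf.fsmul_left, ha, hwa, mul_zero, mul_zero, add_zero]
  obtain ⟨e₁, he₁⟩ : ∃ x, ε x = 1 := by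
    obtain ⟨x, hx⟩ := DFunLike.ne_iff.1 hf.eps
    exact ⟨(ε x)⁻¹ • x, by rw [map_smul, smul_eq_mul, inv_mul_cancel₀ hx]⟩
  set u₀ := e₁ • b with hu₀
  obtain ⟨k, hk, hkZ⟩ : ∃ k : L, k + τ k = 0 ∧ cop hf g k a u₀ ∉ Z := by
    let S : Submodule F L := Z.comap ((g : Module.End F V) ∘ₗ (LinearMap.toSpanSingleton L V a).restrictScalars F)
    have hS : S ≠ ⊤ := fun e => by
      have hle : B ≤ Z := by
        rintro _ ⟨_, hv, rfl⟩
        obtain ⟨s, rfl⟩ := mem_line.1 hv
        exact (e ▸ Submodule.mem_top : s ∈ S)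
      exact hwA (hle hw).1
    have hl : β (((g⁻¹ : (Module.End F V)ˣ) : Module.End F V) u₀) a ≠ 0 := by
      intro e
      obtain ⟨x, hx, hxw⟩ := hw
      obtain ⟨s, rfl⟩ := mem_line.1 hx
      have h1 : tf β ε u₀ w = 1 := by rw [hu₀, tf, hf.smul_left, hbw, mul_one, he₁]
      rw [← hxw, ← apply_inv_apply g u₀, hM.iso g hg, tf, hf.smul_right, e, mul_zero, map_zero] at h1
      exact zero_ne_one h1
    obtain ⟨k, hk, hkS⟩ := hf.exists_skew_notMem hS hl
    exact ⟨k, hk, fun h => hkS (by rw [cop_apply] at h; exact h)⟩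
  set q := cop hf g k a u₀ with hq
  have hqB : q ∈ B := hM.cop_range g a u₀ k
  obtain ⟨c, hc⟩ := hf.exists_trace (x := -β b b) (by rw [map_neg, hf.self_fixed])
  obtain ⟨x, hx, ex⟩ := hM.sieg a b c ha hba (by rw [hc, neg_add_cancel])
  obtain ⟨y, hy, ey⟩ : Mem M (-cop hf g k a) := (hM.cop_mem hg ha hk).neg (hM.cop_sq g ha)
  obtain ⟨y', hy', ey'⟩ := hM.cop_mem hg ha hk
  refine hM.full_of_point (p := -q) (e := tf β ε q u₀) ha (by rw [hf.neg_left, hBa q hqB, neg_zero])
    (fun h => hkZ ⟨by simpa using (line F L a).neg_mem h, hqB⟩) ⟨x * y' * x⁻¹ * y, ?_, ?_⟩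
  · exact mul_mem (mul_mem (mul_mem hx hy') (inv_mem hx)) hy
  -- the weight of the second part
  have hμ' : ∀ v ∈ B, β v b = algebraMap F L (tf β ε v u₀) := fun v hv => by
    obtain ⟨z, hz, m, rfl⟩ := hsplit v hv
    obtain ⟨s, rfl⟩ := mem_line.1 hz.1
    simp only [tf, hu₀, hf.smul_right, hf.add_left, hf.smul_left, hf.fsmul_left, hab, hwb, mul_zero, zero_add, mul_one]
    rw [mul_comm (τ e₁), ← Algebra.smul_def, map_smul, hf.eps_tau, he₁, map_one, smul_eq_mul, mul_one]
  have hxinv : ∀ v : V, ∀ y ∈ B, tf β ε (((x⁻¹ : (Module.End F V)ˣ) : Module.End F V) v) y =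
      tf β ε v (y - tf β ε y u₀ • a) := fun v y hy => by
    rw [← hM.iso x hx, apply_inv_apply, ex]
    congr 1
    simp [sie_apply, hBa y hy, hμ' y hy, neg_smul, sub_eq_add_neg]
  have hC : ∀ v, cop hf g k a (((x⁻¹ : (Module.End F V)ˣ) : Module.End F V) v) =
      cop hf g k a v - tf β ε v a • q := fun v => by
    rw [hq, ← map_smul, ← map_sub]
    refine hM.cop_eq hg fun y hy => ?_
    rw [hxinv v y hy, hf.h_sub_left, hf.h_sub_right, hf.h_smul_left, hf.h_smul_right, ← hf.h_herm]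
    ring
  refine LinearMap.ext fun v => ?_
  have hskew : ∀ v, tf β ε (cop hf g k a v) u₀ = -tf β ε v q := fun v => hM.cop_skew hg hk v u₀
  have hxB : ∀ y ∈ B, (x : Module.End F V) y = y - tf β ε y u₀ • a := fun y hy => by
    simp [ex, sie_apply, hBa y hy, hμ' y hy, neg_smul, sub_eq_add_neg]
  set C := cop hf g k a with hCdef
  have hCC : ∀ v, C (C v) = 0 := fun v => LinearMap.congr_fun (hM.cop_sq g ha) v
  have hCa : tf β ε (C v) a = 0 := by rw [tf, hBa _ (hM.cop_range g a v k), map_zero]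
  simp only [Units.val_mul, ey, ey', Module.End.mul_apply, LinearMap.add_apply, Module.End.one_apply,
    LinearMap.neg_apply, sgl_apply, map_add, map_neg, apply_inv_apply, hC, hCC, hCa, zero_smul, sub_zero, map_zero]
  rw [hxB _ (B.sub_mem (hM.cop_range g a v k) (B.smul_mem _ hqB))]
  clear_value C
  simp only [← hCdef, hf.h_sub_left, hf.h_smul_left, hskew, hf.h_neg_right]
  module

/-- The commutator of a conjugated and a plain root element. -/
theorem mem_cross {g : (Module.End F V)ˣ} (hg : g ∈ M) {a w w' : V} (ha : β a a = 0)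
    (hsplit : ∀ y ∈ (line F L a).map (g : Module.End F V),
      ∃ z ∈ line F L a ⊓ (line F L a).map (g : Module.End F V), ∃ μ : F, y = z + μ • w)
    (hw' : w' ∈ line F L a) (hρ : tf β ε w' w ≠ 0) {k c : L} (hk : k + τ k = 0) (hc : c + τ c = 0)
    (hqZ : cop hf g k a w' ∈ line F L a ⊓ (line F L a).map (g : Module.End F V)) :
    Mem M (sgl hf (cop hf g k a w') ((c * (β w a / algebraMap F L (σ (tf β ε w' w)))) • a)
      (ε (c * β w a * β a w) / (σ (tf β ε w' w) * tf β ε w' w))) := by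
  set B := (line F L a).map (g : Module.End F V) with hB
  set C := cop hf g k a with hCdef
  set ρ := tf β ε w' w with hρdef
  set q := C w' with hq
  set p := (c * (β w a / algebraMap F L (σ ρ))) • a with hp
  have hσρ : σ ρ ≠ 0 := fun e => hρ (by simpa using e)
  obtain ⟨y, hy, ey⟩ : Mem M C := hM.cop_mem hg ha hk
  obtain ⟨y', hy', ey'⟩ : Mem M (-C) := (hM.cop_mem hg ha hk).neg (hM.cop_sq g ha)
  obtain ⟨x, hx, ex⟩ := hM.mem_lin ha hc
  obtain ⟨x', hx', ex'⟩ : Mem M (-(lin1 (c • blin hf a) a)) :=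
    (hM.mem_lin ha hc).neg (LinearMap.ext fun v => by simp [Module.End.mul_apply, ha])
  refine ⟨y * x * y' * x', mul_mem (mul_mem (mul_mem hy hx) hy') hx', ?_⟩
  set X : Module.End F V := lin1 (c • blin hf a) a with hXdef
  have hXv : ∀ v, X v = (c * β v a) • a := fun v => by simp [hXdef]
  have hCC : C * C = 0 := hM.cop_sq g ha
  have hXX : X * X = 0 := LinearMap.ext fun v => by simp [Module.End.mul_apply, hXdef, ha]
  have hA : ∀ s : L, ∀ z ∈ line F L a ⊓ B, tf β ε (s • a) z = 0 := fun s z hz => by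
    obtain ⟨t, rfl⟩ := mem_line.1 hz.1
    rw [tf, hf.smul_left, hf.smul_right, ha, mul_zero, mul_zero, map_zero]
  have hCA : ∀ s : L, C (s • a) = (ε (s * β a w) / ρ) • q := fun s => by
    rw [hq, ← map_smul]
    refine hM.cop_eq hg fun y hy => ?_
    obtain ⟨z, hz, m, rfl⟩ := hsplit y hy
    obtain ⟨s', rfl⟩ := mem_line.1 hw'
    rw [hf.h_add_right, hf.h_add_right, hA s z hz, hf.h_smul_left, hA s' z hz, mul_zero, hf.h_smul_right,
      hf.h_smul_right, hf.h_smul_left, ← hρdef, div_mul_cancel₀ _ hρ, tf, hf.smul_left]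
  have hvp : ∀ v, tf β ε v p = -(ε (c * β v a * β a w) / ρ) := fun v => by
    rw [hp, tf, hf.smul_right, map_mul τ, map_div₀ τ, hf.talg, hf.sinv, ← hf.herm, mem_zero_skew hc, div_eq_inv_mul,
      ← map_inv₀, show -c * (algebraMap F L ρ⁻¹ * β a w) * β v a = -(algebraMap F L ρ⁻¹ * (c * β v a * β a w)) by ring,
      ← Algebra.smul_def, map_neg, map_smul, smul_eq_mul, inv_mul_eq_div]
  have hCX : ∀ v, C (X v) = -tf β ε v p • q := fun v => by
    rw [hXv, hCA, hvp, neg_neg]
  have hXC : ∀ v, X (C v) = -tf β ε v q • p := fun v => by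
    obtain ⟨z, hz, m, hm⟩ := hsplit _ (hM.cop_range g a v k)
    rw [← hCdef] at hm
    have h1 : tf β ε (C v) w' = m * σ ρ := by
      obtain ⟨s', rfl⟩ := mem_line.1 hw'
      rw [hm, hf.h_add_left, hf.h_zero_symm (hA s' z hz), zero_add, hf.h_smul_left, hρdef, ← hf.h_herm]
    have h2 : m = -tf β ε v q / σ ρ := by
      rw [← hM.cop_skew hg hk v w', ← hCdef, h1, mul_div_cancel_right₀ _ hσρ]
    obtain ⟨t, rfl⟩ := mem_line.1 hz.1
    rw [hXv, hm, hf.add_left, hf.smul_left, ha, mul_zero, zero_add, hf.fsmul_left, hp, ← smul_assoc, Algebra.smul_def,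
      h2, map_div₀]
    congr 1
    ring
  have hXq : X q = 0 := by
    obtain ⟨t, ht⟩ := mem_line.1 hqZ.1
    rw [hXv, ← ht, hf.smul_left, ha, mul_zero, mul_zero, zero_smul]
  simp only [Units.val_mul, ey, ey', ex, ex']
  refine LinearMap.ext fun v => ?_
  have e1 : C (C v) = 0 := LinearMap.congr_fun hCC v
  have e2 : X (X v) = 0 := LinearMap.congr_fun hXX v
  have e3 : ∀ u, C (C u) = 0 := fun u => LinearMap.congr_fun hCC u
  have hπ : C p = (ε (c * β w a * β a w) / (σ ρ * ρ)) • q := by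
    rw [hp, hCA]
    congr 1
    rw [show c * (β w a / algebraMap F L (σ ρ)) * β a w = (σ ρ)⁻¹ • (c * β w a * β a w) by
      rw [Algebra.smul_def, map_inv₀]; ring, map_smul, smul_eq_mul]
    field_simp
  have hCq : C q = 0 := e3 w'
  simp only [Module.End.mul_apply, LinearMap.add_apply, Module.End.one_apply, LinearMap.neg_apply, map_add, map_neg,
    e2, e3, hCX, hXC, map_smul, hXq, hπ, hCq, sgl_apply, smul_zero, neg_zero, add_zero]
  module

/-- A touching pair gives a full centre. -/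
theorem full_of_touching (hq : (∃ l : F, σ l = l ∧ l ≠ 0 ∧ l ≠ 1) ∨ Scal F L β M)
    {g : (Module.End F V)ˣ} (hg : g ∈ M) {a : V} (ha0 : a ≠ 0) (ha : β a a = 0)
    (hne : (line F L a).map (g : Module.End F V) ≠ line F L a)
    (hk : Module.finrank F (line F L a ⊓ (line F L a).map (g : Module.End F V) : Submodule F V) + 1 =
      Module.finrank F L) :
    ∃ b : V, b ≠ 0 ∧ β b b = 0 ∧ Full hf M b := by
  haveI : FiniteDimensional (fld σ) L := Module.Finite.trans F L
  haveI : FiniteDimensional (fld σ) V := Module.Finite.trans F V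
  set A := line F L a with hA
  set B := A.map (g : Module.End F V) with hB
  set Z := A ⊓ B with hZ
  have hBr : Module.finrank F B = Module.finrank F L := finrank_map_line g ha0
  have hAr : Module.finrank F A = Module.finrank F L := finrank_line ha0
  have hgen : ∀ {P : Submodule F V}, Z ≤ P → Module.finrank F P = Module.finrank F L →
      ∃ w ∈ P, w ∉ Z ∧ ∀ y ∈ P, ∃ z ∈ Z, ∃ μ : F, y = z + μ • w := by
    intro P hP hr
    obtain ⟨w, hw, hwZ⟩ : ∃ w ∈ P, w ∉ Z := by
      by_contra hcon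
      push Not at hcon
      have := Submodule.finrank_mono (show P ≤ Z from hcon)
      omega
    refine ⟨w, hw, hwZ, fun y hy => ?_⟩
    have he : Z ⊔ F ∙ w = P := by
      refine Submodule.eq_of_le_of_finrank_le (sup_le hP ((Submodule.span_singleton_le_iff_mem _ _).2 hw)) ?_
      have := Submodule.finrank_lt_finrank_of_lt (show Z < Z ⊔ F ∙ w from lt_of_le_of_ne le_sup_left fun e =>
        hwZ (e ▸ Submodule.mem_sup_right (Submodule.mem_span_singleton_self _)))
      omega
    obtain ⟨z, hz, m, hm, rfl⟩ := Submodule.mem_sup.1 (he ▸ hy)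
    obtain ⟨μ, rfl⟩ := Submodule.mem_span_singleton.1 hm
    exact ⟨z, hz, μ, rfl⟩
  obtain ⟨w, hw, hwZ, hsplit⟩ := hgen inf_le_right hBr
  by_cases hwa : β w a = 0
  · exact ⟨a, ha0, ha, hM.full_perp hg ha0 ha hw (fun h => hwZ ⟨h, hw⟩) hwa hsplit⟩
  obtain ⟨w', hw', hw'Z, hsplit'⟩ := hgen inf_le_left hAr
  have haw : β a w ≠ 0 := fun e => hwa (hf.zero_symm e)
  have hAA : ∀ u ∈ A, ∀ v ∈ A, tf β ε u v = 0 := fun u hu v hv => by
    obtain ⟨s, rfl⟩ := mem_line.1 hu
    obtain ⟨t, rfl⟩ := mem_line.1 hv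
    rw [tf, hf.smul_left, hf.smul_right, ha, mul_zero, mul_zero, map_zero]
  have hρ : tf β ε w' w ≠ 0 := fun e => by
    refine hf.eps (LinearMap.ext fun y => ?_)
    obtain ⟨z, hz, m, hm⟩ := hsplit' _ (smul_mem_line a (y / β a w))
    have h1 : tf β ε ((y / β a w) • a) w = ε y := by
      rw [tf, hf.smul_left, div_mul_cancel₀ _ haw]
    obtain ⟨x, hx, rfl⟩ := hz.2
    obtain ⟨x', hx', rfl⟩ := hw
    obtain ⟨s, rfl⟩ := mem_line.1 hx
    obtain ⟨t, rfl⟩ := mem_line.1 hx'
    rw [hm, hf.h_add_left, hf.h_smul_left, e, hM.iso g hg, tf, hf.smul_left, hf.smul_right, ha] at h1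
    simpa using h1.symm
  set ρ := tf β ε w' w with hρdef
  set κ := β w a / algebraMap F L (σ ρ) with hκ
  have hσρ : σ ρ ≠ 0 := fun e => hρ (by simpa using e)
  obtain ⟨c₀, hc₀, hπ₀⟩ : ∃ c, c + τ c = 0 ∧ ε (c * β w a * β a w) / (σ ρ * ρ) ≠ 0 := by
    obtain ⟨x, hx, hx0⟩ := hf.exists_fixed_eps
    obtain ⟨j, hj, hjs⟩ := hf.exists_skew
    have hN : β w a * β a w ≠ 0 := mul_ne_zero hwa haw
    refine ⟨j • (x / (β w a * β a w)), ?_, ?_⟩
    · rw [hf.tau_smul, map_div₀, map_mul, hx, ← hf.herm, ← hf.herm, mul_comm (β a w), ← add_smul, hjs, zero_smul]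
    · rw [smul_mul_assoc, smul_mul_assoc, mul_assoc, div_mul_cancel₀ _ hN, map_smul, smul_eq_mul]
      exact div_ne_zero (mul_ne_zero hj hx0) (mul_ne_zero hσρ hρ)
  -- centres of the cross commutators
  let R : Submodule (fld σ) V :=
    { carrier := {z | z ∈ Z ∧ ∃ k : L, k + τ k = 0 ∧ cop hf g k a w' = z}
      zero_mem' := ⟨Z.zero_mem, 0, by simp, by simp [cop_apply]⟩
      add_mem' := by
        rintro _ _ ⟨h1, k, hk, rfl⟩ ⟨h2, k', hk', rfl⟩
        exact ⟨Z.add_mem h1 h2, k + k', hf.skewL.add_mem hk hk', by simp [cop_apply, add_mul, add_smul]⟩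
      smul_mem' := by
        rintro x _ ⟨h1, k, hk, rfl⟩
        exact ⟨by rw [fld_smul]; exact Z.smul_mem _ h1, x • k, hf.skewL.smul_mem x hk, by
          simp only [cop_apply, fld_smul, smul_mul_assoc, smul_assoc, map_smul]⟩ }
  obtain ⟨j, hj, hjs⟩ := hf.exists_skew
  have hl₀ : β (((g⁻¹ : (Module.End F V)ˣ) : Module.End F V) w') a ≠ 0 := fun e => by
    obtain ⟨x', hx', hxw⟩ := hw
    obtain ⟨t, rfl⟩ := mem_line.1 hx'
    refine hρ ?_
    rw [hρdef, ← hxw, ← apply_inv_apply g w', hM.iso g hg, tf, hf.smul_right, e, mul_zero, map_zero]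
  let Φ : hf.skewL →ₗ[fld σ] V :=
    { toFun := fun k => cop hf g (k : L) a w'
      map_add' := fun k k' => by simp [cop_apply, add_mul, add_smul]
      map_smul' := fun x k => by
        simp only [cop_apply, Submodule.coe_smul, fld_smul, smul_mul_assoc, smul_assoc, map_smul, RingHom.id_apply] }
  have hΦ : Function.Injective Φ := (injective_iff_map_eq_zero Φ).2 fun k hk => Subtype.ext (by
    have hk' : cop hf g (k : L) a w' = 0 := hk
    rw [cop_apply] at hk'
    have := map_unit_inj g (hk'.trans (map_zero _).symm)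
    exact ((mul_eq_zero.1 ((smul_eq_zero.1 this).resolve_right ha0)).resolve_right hl₀))
  let ψ : hf.skewL →ₗ[fld σ] fld σ :=
    { toFun := fun k => ⟨j * tf β ε (Φ k) w', by
        show σ _ = _
        have e := hM.cop_skew hg k.2 w' w' (a := a)
        change tf β ε (Φ k) w' = -tf β ε w' (Φ k) at e
        rw [hf.h_herm (Φ k) w'] at e
        rw [map_mul, show σ (tf β ε (Φ k) w') = -tf β ε (Φ k) w' by linear_combination e,
          eq_neg_of_add_eq_zero_right hjs, RingHom.id_apply]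
        ring⟩
      map_add' := fun k k' => Subtype.ext (by
        show j * _ = j * _ + j * _
        rw [map_add, hf.h_add_left, mul_add])
      map_smul' := fun x k => Subtype.ext (by
        show j * _ = (x : F) * (j * _)
        rw [map_smul, fld_smul, hf.h_smul_left, mul_left_comm]) }
  have hker : ∀ k : hf.skewL, ψ k = 0 → Φ k ∈ R := fun k hk => by
    refine ⟨?_, k, k.2, rfl⟩
    obtain ⟨z, hz, m, hm⟩ := hsplit _ (hM.cop_range g a w' (k : L))
    have h1 : tf β ε (Φ k) w' = 0 := (mul_eq_zero.1 (congrArg Subtype.val hk : j * tf β ε (Φ k) w' = 0)).resolve_left hj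
    change Φ k = z + m • w at hm
    rw [hm, hf.h_add_left, hAA z hz.1 w' hw', zero_add, hf.h_smul_left, hf.h_herm w' w, ← hρdef, mul_eq_zero] at h1
    rw [hm, h1.resolve_right hσρ, zero_smul, add_zero]
    exact hz
  have hR : 2 ≤ Module.finrank (fld σ) R := by
    let Φ' : LinearMap.ker ψ →ₗ[fld σ] R :=
      { toFun := fun k => ⟨Φ k.1, hker k.1 k.2⟩
        map_add' := fun k k' => Subtype.ext (by simp)
        map_smul' := fun x k => Subtype.ext (by simp) }
    have h1 := LinearMap.finrank_le_finrank_of_injective (f := Φ')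
      (fun k k' e => Subtype.ext (hΦ (congrArg Subtype.val e)))
    have h2 := LinearMap.finrank_range_add_finrank_ker ψ
    have h3 := Submodule.finrank_le (LinearMap.range ψ)
    rw [Module.finrank_self] at h3
    rw [hf.finrank_skewL] at h2
    have := hf.prime.two_le
    rcases eq_or_lt_of_le this with h4 | h4
    · exact absurd hf.odd (by rw [← h4]; decide)
    omega
  have hmem : ∀ z ∈ R, ∀ c : L, c + τ c = 0 →
      Mem M (sgl hf z ((c * κ) • a) (ε (c * β w a * β a w) / (σ ρ * ρ))) := by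
    rintro _ ⟨hz, k, hk', rfl⟩ c hc
    exact hM.mem_cross hg ha hsplit hw' hρ hk' hc hz
  obtain ⟨⟨z, hzR⟩, hz0⟩ : ∃ z : R, z ≠ 0 := by
    haveI : Nontrivial R := Module.nontrivial_of_finrank_pos (R := fld σ) (by omega)
    exact exists_ne 0
  have hz0' : z ≠ 0 := fun e => hz0 (Subtype.ext e)
  obtain ⟨x, rfl⟩ := mem_line.1 hzR.1.1
  have hxa : β (x • a) (x • a) = 0 := by rw [hf.smul_left, hf.smul_right, ha, mul_zero, mul_zero]
  by_cases hnl : ∃ l : F, σ l = l ∧ l ≠ 0 ∧ l ≠ 1
  · obtain ⟨l, hl, hl0, hl1⟩ := hnl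
    refine ⟨x • a, hz0', hxa, fun e he => ?_⟩
    set π := ε (c₀ * β w a * β a w) / (σ ρ * ρ) with hπ
    obtain ⟨f, hf', hfs⟩ : ∃ f : F, (l * l - l) * (f * π) = e ∧ σ f = f := by
      have hπs : σ π = -π := by
        rw [hπ, map_div₀, map_mul σ, hf.sinv, ← hf.eps_tau, map_mul τ, map_mul τ, mem_zero_skew hc₀, ← hf.herm, ← hf.herm]
        rw [show -c₀ * β a w * β w a = -(c₀ * β w a * β a w) by ring, map_neg]
        ring
      have hll : l * l - l ≠ 0 := by
        rw [show l * l - l = l * (l - 1) by ring]; exact mul_ne_zero hl0 (sub_ne_zero.2 hl1)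
      refine ⟨e / ((l * l - l) * π), ?_, ?_⟩
      · field_simp
      · rw [map_div₀, map_mul, map_sub, map_mul, hl, hπs, eq_neg_of_add_eq_zero_right he, mul_neg, neg_div_neg_eq]
    set c := f • c₀ with hc
    have hcs : c + τ c = 0 := by rw [hc, hf.tau_smul, hfs, ← smul_add, hc₀, smul_zero]
    have hπc : ε (c * β w a * β a w) / (σ ρ * ρ) = f * π := by
      rw [hc, smul_mul_assoc, smul_mul_assoc, map_smul, smul_eq_mul, hπ, mul_div_assoc]
    have h1 := hmem (l • x • a) (by
      have := R.smul_mem ⟨l, hl⟩ hzR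
      rwa [fld_smul] at this) c hcs
    rw [sgl_smul, hπc, hl] at h1
    have h2 := hmem _ hzR (l • c) (by rw [hf.tau_smul, hl, ← smul_add, hcs, smul_zero])
    rw [smul_mul_assoc l c, smul_assoc, smul_mul_assoc l c, smul_mul_assoc l (c * β w a), map_smul, smul_eq_mul, mul_div_assoc, hπc] at h2
    have hpA : l • (c * κ) • a ∈ A := A.smul_mem _ (smul_mem_line a _)
    have hxA : x • a ∈ A := smul_mem_line a x
    convert mem_sgl_add h1 (mem_sgl_neg h2 (hAA _ hxA _ hxA) (hAA _ hpA _ hxA)) (hAA _ hxA _ hxA) (hAA _ hpA _ hxA)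
      (hAA _ (A.neg_mem hpA) _ hxA) using 2
    · rw [add_neg_cancel]
    · rw [hAA _ hpA _ hpA, hAA _ (A.neg_mem hpA) _ hpA, ← hf']; ring
  replace hq := hq.resolve_left hnl
  push Not at hnl
  have hfix : ∀ l : F, σ l = l → l ≠ 0 → l = 1 := fun l h1 h2 => hnl l h1 h2
  have h20 : (2 : F) = 0 := by
    have := hfix (-1) (by rw [map_neg, map_one]) (neg_ne_zero.2 one_ne_zero)
    linear_combination -this
  refine ⟨a, ha0, ha, ?_⟩
  obtain ⟨⟨z', hzR'⟩, hz'⟩ : ∃ z : R, (z : V) ∉ Submodule.span (fld σ) {x • a} := by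
    by_contra hcon
    push Not at hcon
    have h1 : (R : Submodule (fld σ) V) ≤ Submodule.span (fld σ) {x • a} := fun v hv => hcon ⟨v, hv⟩
    have := Submodule.finrank_mono h1
    rw [finrank_span_singleton hz0'] at this
    omega
  obtain ⟨x', rfl⟩ := mem_line.1 hzR'.1.1
  change x' • a ∉ Submodule.span (fld σ) {x • a} at hz'
  have hx0 : x ≠ 0 := fun e => hz0' (by rw [e, zero_smul])
  have hx'0 : x' ≠ 0 := fun e => hz' (by rw [e, zero_smul]; exact Submodule.zero_mem _)
  have hxx' : x + x' ≠ 0 := fun e => hz' (by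
    rw [show x' = -x from eq_neg_of_add_eq_zero_right e, neg_smul]
    exact Submodule.neg_mem _ (Submodule.mem_span_singleton_self _))
  -- moved to a common centre
  have hmem' : ∀ y : L, y ≠ 0 → y • a ∈ R → ∀ c : L, c + τ c = 0 →
      Mem M (sgl hf a ((c * κ / y) • a) (ε (c * β w a * β a w) / (σ ρ * ρ))) := by
    intro y hy hyR c hc
    obtain ⟨u, hu, f, hf0, hua⟩ := hq a ha0 ha y⁻¹ (inv_ne_zero hy)
    have := hM.sgl_conj hu (hmem _ hyR c hc)
    rw [hua, hua, mul_inv_cancel₀ hy, ← div_eq_mul_inv, smul_assoc, one_smul, sgl_smul] at this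
    have hN : f * σ f = 1 := hfix _ (by rw [map_mul, hf.sinv, mul_comm]) (mul_ne_zero hf0 (fun e => hf0 (by simpa using e)))
    rwa [hN, one_mul, smul_assoc, smul_smul, mul_comm (σ f), hN, one_smul] at this
  intro e he
  rcases eq_or_ne e 0 with rfl | he0
  · rw [sgl_zero]; exact Mem.zero
  have he1 : e = 1 := hfix e (by rw [eq_neg_of_add_eq_zero_right he]; linear_combination -e * h20) he0
  obtain ⟨c₁, c₂, c₃, hc₁, hc₂, hc₃, hp0, hπ1⟩ : ∃ c₁ c₂ c₃ : L, c₁ + τ c₁ = 0 ∧ c₂ + τ c₂ = 0 ∧ c₃ + τ c₃ = 0 ∧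
      c₁ * κ / x + c₂ * κ / x' + c₃ * κ / (x + x') = 0 ∧
      ε (c₁ * β w a * β a w) / (σ ρ * ρ) + ε (c₂ * β w a * β a w) / (σ ρ * ρ) +
        ε (c₃ * β w a * β a w) / (σ ρ * ρ) ≠ 0 := by
    have h2L : (2 : L) = 0 := by
      have := congrArg (algebraMap F L) h20
      rwa [map_ofNat, map_zero] at this
    set t := x' / x with ht
    have ht0 : t ≠ 0 := div_ne_zero hx'0 hx0
    have hx' : x' = t * x := (div_mul_cancel₀ _ hx0).symm
    have hlin : ∀ u v : L, ε (u * β w a * β a w) / (σ ρ * ρ) + ε (v * β w a * β a w) / (σ ρ * ρ) =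
        ε ((u + v) * β w a * β a w) / (σ ρ * ρ) := fun u v => by
      rw [← add_div, ← map_add, ← add_mul, ← add_mul]
    by_cases htt : τ t = t
    · have h1t : 1 - t ≠ 0 := fun e => hz' (by
        rw [hx', ← sub_eq_zero.1 e, one_mul]; exact Submodule.mem_span_singleton_self _)
      have hs : ∀ l : L, τ l = l → ∀ u : L, u + τ u = 0 → l * u + τ (l * u) = 0 := fun l hl u hu => by
        rw [map_mul, hl, ← mul_add, hu, mul_zero]
      have h1 : τ (1 - t)⁻¹ = (1 - t)⁻¹ := by rw [map_inv₀, map_sub, map_one, htt]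
      refine ⟨(1 - t)⁻¹ * c₀, -(t * ((1 - t)⁻¹ * c₀)), 0, hs _ h1 _ hc₀, ?_, by simp, ?_, ?_⟩
      · rw [map_neg, ← neg_add, hs _ htt _ (hs _ h1 _ hc₀), neg_zero]
      · rw [hx']; field_simp; ring
      · rw [zero_mul, zero_mul, map_zero, zero_div, add_zero, hlin,
          show (1 - t)⁻¹ * c₀ + -(t * ((1 - t)⁻¹ * c₀)) = (1 - t) * (1 - t)⁻¹ * c₀ by ring, mul_inv_cancel₀ h1t,
          one_mul]
        exact hπ₀
    · have hA0 : t + τ t ≠ 0 := fun e => htt (by
        have := eq_neg_of_add_eq_zero_right e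
        rw [this]; linear_combination -t * h2L)
      have hs : ∀ l : L, τ l = l → ∀ u : L, u + τ u = 0 → l * u + τ (l * u) = 0 := fun l hl u hu => by
        rw [map_mul, hl, ← mul_add, hu, mul_zero]
      have hc : (t + τ t)⁻¹ * c₀ + τ ((t + τ t)⁻¹ * c₀) = 0 :=
        hs _ (by rw [map_inv₀, map_add, hf.tinv, add_comm]) _ hc₀
      set c := (t + τ t)⁻¹ * c₀ with hcdef
      refine ⟨c, t * τ t * c, (1 + τ t) * (1 + t) * c, hc, hs _ (by rw [map_mul, hf.tinv, mul_comm]) _ hc,
        hs _ (by rw [map_mul, map_add, map_add, map_one, hf.tinv, mul_comm]) _ hc, ?_, ?_⟩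
      · have h1t : 1 + t ≠ 0 := fun e => hxx' (by rw [hx', ← one_mul x, ← mul_assoc, ← add_mul, mul_one, e, zero_mul])
        clear_value c t
        rw [hx', show x + t * x = (1 + t) * x by ring]
        field_simp
        linear_combination (c * κ * (1 + τ t)) * h2L
      · rw [hlin, hlin, show c + t * τ t * c + (1 + τ t) * (1 + t) * c = (t + τ t) * c by
          linear_combination (c + t * τ t * c) * h2L, hcdef, ← mul_assoc, mul_inv_cancel₀ hA0, one_mul]
        exact hπ₀
  have hA' : ∀ s : L, s • a ∈ A := smul_mem_line a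
  have haA : a ∈ A := self_mem_line a
  have h12 := mem_sgl_add (hmem' x hx0 hzR c₁ hc₁) (hmem' x' hx'0 hzR' c₂ hc₂) (hAA _ haA _ haA) (hAA _ (hA' _) _ haA)
    (hAA _ (hA' _) _ haA)
  rw [hAA _ (hA' _) _ (hA' _), sub_zero, ← add_smul] at h12
  have h123 := mem_sgl_add h12 (hmem' (x + x') hxx' (by rw [add_smul]; exact R.add_mem hzR hzR') c₃ hc₃) (hAA _ haA _ haA)
    (hAA _ (hA' _) _ haA) (hAA _ (hA' _) _ haA)
  rw [hAA _ (hA' _) _ (hA' _), sub_zero, ← add_smul, hp0, zero_smul] at h123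
  rw [he1]
  convert h123 using 2
  exact (hfix _ (by
    have hsk : ∀ c : L, c + τ c = 0 → σ (ε (c * β w a * β a w) / (σ ρ * ρ)) = ε (c * β w a * β a w) / (σ ρ * ρ) := by
      intro c hc
      rw [map_div₀, map_mul σ, hf.sinv, ← hf.eps_tau, map_mul τ, map_mul τ, mem_zero_skew hc, ← hf.herm, ← hf.herm,
        show -c * β a w * β w a = -(c * β w a * β a w) by ring, map_neg, mul_comm ρ]
      linear_combination (-(ε (c * β w a * β a w) / (σ ρ * ρ))) * h20
    rw [map_add, map_add, hsk c₁ hc₁, hsk c₂ hc₂, hsk c₃ hc₃]) hπ1).symm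

end UExt

end CfsgLib.FieldMax.Unitary
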