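import Cfsg.Agent.Lib.FieldMax.Unitary.CW

/-!
Isotropic lines over the extension: transitivity, and a tilted line outside the normaliser.
-/

set_option autoImplicit false
set_option linter.unusedSectionVars false
set_option linter.style.haveILetI false

namespace CfsgLib.FieldMax.Unitary

variable {F L V : Type*} [Field F] [Field L] [Algebra F L] [AddCommGroup V] [Module F V] [Module L V]
  [IsScalarTower F L V]
variable {σ : F →+* F} {τ : L →+* L} {β : V → V → L} {ε : Module.Dual F L}
variable [Fintype F] [FiniteDimensional F L] [FiniteDimensional L V] [FiniteDimensional F V]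

/-- A map of lines linear over the extension. -/
def Lin (L : Type*) {F V : Type*} [Field F] [Field L] [AddCommGroup V] [Module F V] [Module L V]
    (u : Module.End F V) : Prop :=
  ∀ (s : L) (v : V), u (s • v) = s • u v

theorem Lin.mul {u w : Module.End F V} (hu : Lin L u) (hw : Lin L w) : Lin L (u * w) := fun s v => by
  rw [Module.End.mul_apply, Module.End.mul_apply, hw, hu]

namespace HForm

variable (hf : HForm σ τ β ε)

include hf

theorem exists_omega' : ∃ ω : L, ω + τ ω = 1 ∧ ω ≠ τ ω := by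
  obtain ⟨ω, hω, hne⟩ := hf.exists_omega
  exact ⟨algebraMap F L ω, by rw [hf.talg, ← map_add, hω, map_one], fun e => hne (by
    rw [hf.talg] at e; exact RingHom.injective _ e)⟩

theorem exists_skew' : ∃ j : L, j ≠ 0 ∧ j + τ j = 0 := by
  obtain ⟨j, hj, hjs⟩ := hf.exists_skew
  exact ⟨algebraMap F L j, by simpa using hj, by rw [hf.talg, ← map_add, hjs, map_zero]⟩

/-- Traces from the extension to its fixed field are onto. -/
theorem exists_trace {x : L} (hx : τ x = x) : ∃ t : L, t + τ t = x := by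
  obtain ⟨ω, hω, -⟩ := hf.exists_omega'
  exact ⟨ω * x, by rw [map_mul, hx, ← add_mul, hω, one_mul]⟩

/-- Norms from the extension to its fixed field are onto. -/
theorem exists_norm {x : L} (hx : τ x = x) : ∃ s : L, s * τ s = x := by
  by_cases hx0 : x = 0
  · exact ⟨0, by simp [hx0]⟩
  haveI : FiniteDimensional (fld σ) L := Module.Finite.trans F L
  haveI : Fintype (fld σ) := Fintype.ofFinite _
  obtain ⟨P, hP⟩ := LinearMap.exists_leftInverse_of_injective hf.fixL.subtype (by simp)
  let B : (L × hf.fixL) →ₗ[fld σ] (L × hf.fixL) →ₗ[fld σ] hf.fixL :=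
    LinearMap.mk₂ (fld σ) (fun p q => P (p.1 * τ q.1 - x * (p.2 : L) * (q.2 : L)))
      (fun p p' q => by rw [← map_add]; congr 1; simp; ring)
      (fun c p q => by
        rw [← map_smul]; congr 1
        simp only [Prod.smul_fst, Prod.smul_snd, Submodule.coe_smul, fld_smul, Algebra.smul_def]; ring)
      (fun p q q' => by rw [← map_add]; congr 1; simp; ring)
      (fun c p q => by
        rw [← map_smul]; congr 1
        simp only [Prod.smul_fst, Prod.smul_snd, Submodule.coe_smul, fld_smul, hf.tau_smul,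
          show σ (c : F) = c from c.2]
        simp only [Algebra.smul_def]
        ring)
  have hlt : 2 * Module.finrank (fld σ) hf.fixL < Module.finrank (fld σ) (L × hf.fixL) := by
    rw [Module.finrank_prod, hf.finrank_restrict L, hf.finrank_fixL]
    have := hf.prime.two_le
    omega
  obtain ⟨⟨s, t⟩, hst, h0⟩ := exists_quad_zero B hlt
  have hmem : s * τ s - x * (t : L) * (t : L) ∈ hf.fixL := by
    show τ _ = _
    have ht : τ (t : L) = t := t.2
    rw [map_sub, map_mul, map_mul, map_mul, hf.tinv, hx, ht]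
    ring
  have e : P (s * τ s - x * (t : L) * (t : L)) = ⟨_, hmem⟩ := LinearMap.congr_fun hP ⟨_, hmem⟩
  have e' : s * τ s = x * (t : L) * (t : L) := sub_eq_zero.1 (congrArg Subtype.val (e.symm.trans h0))
  have ht0 : (t : L) ≠ 0 := fun e0 => hst (by
    rw [e0, mul_zero, mul_eq_zero] at e'
    have : s = 0 := e'.elim id hf.t_inj
    exact Prod.ext this (Subtype.ext e0))
  refine ⟨s / t, ?_⟩
  rw [map_div₀, show τ (t : L) = t from t.2]
  field_simp
  linear_combination e'

theorem exists_ne_zero : ∃ v : V, v ≠ 0 :=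
  haveI : Nontrivial V := Module.nontrivial_of_finrank_pos (R := L) (by have := hf.dim; omega)
  exists_ne 0

/-- A value of the form on a plane. -/
theorem exists_value {v w : V} (hvw : β v w = 0) (hw : β w w ≠ 0) {x : L} (hx : τ x = x) :
    ∃ s : L, β (v + s • w) (v + s • w) = x := by
  obtain ⟨s, hs⟩ := hf.exists_norm (x := (x - β v v) / β w w)
    (by rw [map_div₀, map_sub, hx, hf.self_fixed, hf.self_fixed])
  refine ⟨s, ?_⟩
  rw [hf.add_left, hf.add_right, hf.add_right, hf.smul_left, hf.smul_left, hf.smul_right, hf.smul_right, hvw,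
    hf.zero_symm hvw]
  have : s * τ s * β w w = x - β v v := by rw [hs, div_mul_cancel₀ _ hw]
  linear_combination this

theorem exists_perp (a : V) : ∃ w, w ≠ 0 ∧ β w a = 0 := by
  obtain ⟨w, hw, hw0⟩ := (LinearMap.ker (blin hf a)).exists_mem_ne_zero_of_ne_bot fun e => by
    have := LinearMap.finrank_le_finrank_of_injective (LinearMap.ker_eq_bot.1 e)
    rw [Module.finrank_self] at this
    exact absurd hf.dim (by omega)
  exact ⟨w, hw0, hw⟩

theorem exists_iso_vec : ∃ v : V, v ≠ 0 ∧ β v v = 0 := by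
  obtain ⟨v, hv⟩ := hf.exists_ne_zero
  by_cases hvv : β v v = 0
  · exact ⟨v, hv, hvv⟩
  obtain ⟨w, hw, hwv⟩ := hf.exists_perp v
  by_cases hww : β w w = 0
  · exact ⟨w, hw, hww⟩
  obtain ⟨s, hs⟩ := hf.exists_value (hf.zero_symm hwv) hww (map_zero τ)
  refine ⟨v + s • w, fun e => hvv ?_, hs⟩
  have := congrArg (fun z => β z v) e
  simp only [hf.add_left, hf.smul_left, hwv, hf.zero_left, mul_zero, add_zero] at this
  exact this

/-- Make a vector isotropic along an isotropic one. -/
theorem exists_shift {a x : V} (ha : β a a = 0) (hx : β x a ≠ 0) : ∃ t : L, β (x + t • a) (x + t • a) = 0 := by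
  obtain ⟨ω, hω, -⟩ := hf.exists_omega'
  have hax : β a x ≠ 0 := fun e => hx (hf.zero_symm e)
  refine ⟨-(ω * β x x) / β a x, ?_⟩
  set t := -(ω * β x x) / β a x with ht
  have h1 : t * β a x = -(ω * β x x) := div_mul_cancel₀ _ hax
  have h2 : τ t * β x a = -(τ ω * β x x) := by
    rw [hf.herm a x, ← map_mul, h1, map_neg, map_mul, hf.self_fixed]
  simp only [hf.add_left, hf.add_right, hf.smul_left, hf.smul_right, ha, mul_zero, add_zero]
  linear_combination h1 + h2 - β x x * hω

/-- An isotropic vector with prescribed value. -/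
theorem exists_iso_partner {a : V} (ha0 : a ≠ 0) (ha : β a a = 0) (c : L) : ∃ b, β b b = 0 ∧ β b a = c := by
  rcases eq_or_ne c 0 with rfl | hc
  · exact ⟨0, hf.zero_left _, hf.zero_left _⟩
  obtain ⟨x, hx⟩ := hf.exists_partner ha0 c
  obtain ⟨t, ht⟩ := hf.exists_shift ha (hx ▸ hc)
  exact ⟨x + t • a, ht, by rw [hf.add_left, hf.smul_left, ha, mul_zero, add_zero, hx]⟩

theorem exists_iso_both {a b : V} (ha0 : a ≠ 0) (hb0 : b ≠ 0) (ha : β a a = 0) (hb : β b a = 0) :
    ∃ c, β c c = 0 ∧ β c a ≠ 0 ∧ β c b ≠ 0 := by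
  obtain ⟨x, hxa, hxb⟩ : ∃ x, β x a ≠ 0 ∧ β x b ≠ 0 := by
    obtain ⟨x, hx⟩ := hf.exists_partner ha0 1
    obtain ⟨y, hy⟩ := hf.exists_partner hb0 1
    by_cases h1 : β x b = 0
    · by_cases h2 : β y a = 0
      · exact ⟨x + y, by rw [hf.add_left, hx, h2, add_zero]; exact one_ne_zero,
          by rw [hf.add_left, hy, h1, zero_add]; exact one_ne_zero⟩
      · exact ⟨y, h2, hy ▸ one_ne_zero⟩
    · exact ⟨x, hx ▸ one_ne_zero, h1⟩
  obtain ⟨t, ht⟩ := hf.exists_shift ha hxa
  exact ⟨x + t • a, ht, by rwa [hf.add_left, hf.smul_left, ha, mul_zero, add_zero],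
    by rwa [hf.add_left, hf.smul_left, hf.zero_symm hb, mul_zero, add_zero]⟩

/-- A subspace containing all isotropic vectors is everything. -/
theorem mem_of_iso {X : Submodule F V} (h : ∀ v, β v v = 0 → v ∈ X) (v : V) : v ∈ X := by
  obtain ⟨a, ha0, ha⟩ := hf.exists_iso_vec
  have key : ∀ x, β x a ≠ 0 → x ∈ X := fun x hx => by
    obtain ⟨t, ht⟩ := hf.exists_shift ha hx
    have := X.sub_mem (h _ ht) (h (t • a) (by rw [hf.smul_left, hf.smul_right, ha, mul_zero, mul_zero]))
    rwa [add_sub_cancel_right] at this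
  by_cases hv : β v a = 0
  · obtain ⟨b, hb⟩ := hf.exists_partner ha0 1
    have h1 := key (v + b) (by rw [hf.add_left, hv, hb, zero_add]; exact one_ne_zero)
    have h2 := key b (hb ▸ one_ne_zero)
    simpa using X.sub_mem h1 h2
  · exact key v hv

end HForm

namespace UExt

variable {hf : HForm σ τ β ε} {M : Subgroup (Module.End F V)ˣ} (hM : UExt hf M)

include hM

/-- A transvection over the extension. -/
theorem root {d : V} {c : L} (hd : β d d = 0) (hc : c + τ c = 0) :
    ∃ u ∈ M, Lin L (u : Module.End F V) ∧ ∀ v, (u : Module.End F V) v = v + (c * β v d) • d := by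
  obtain ⟨u, hu, e⟩ := hM.sieg d 0 c hd (hf.zero_left _) (by rw [hf.zero_left, add_zero, hc])
  have hv : ∀ v, (u : Module.End F V) v = v + (c * β v d) • d := fun v => by
    simp [e, sie_apply, hf.zero_right]
  refine ⟨u, hu, fun s v => ?_, hv⟩
  rw [hv, hv, hf.smul_left, smul_add, smul_smul, mul_left_comm]

/-- Isotropic vectors with skew product are exchanged. -/
theorem exists_move_skew {a b : V} (ha : β a a = 0) (hb : β b b = 0) (hs : β b a + τ (β b a) = 0) (h0 : β b a ≠ 0) :
    ∃ u ∈ M, Lin L (u : Module.End F V) ∧ (u : Module.End F V) a = b := by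
  rw [← hf.herm] at hs
  have hd : β (b - a) (b - a) = 0 := by
    rw [hf.sub_left, hf.sub_right, hf.sub_right, ha, hb]; linear_combination -hs
  have hab : β a b ≠ 0 := fun e => h0 (hf.zero_symm e)
  obtain ⟨u, hu, hl, e⟩ := hM.root (c := (β a b)⁻¹) hd (by
    rw [map_inv₀, ← hf.herm, show β b a = -β a b from eq_neg_of_add_eq_zero_left hs, inv_neg, add_neg_cancel])
  refine ⟨u, hu, hl, ?_⟩
  rw [e, hf.sub_right, ha, sub_zero, inv_mul_cancel₀ hab, one_smul, add_sub_cancel]

/-- The isotropic lines are permuted transitively. -/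
theorem exists_line_move {a b : V} (ha0 : a ≠ 0) (hb0 : b ≠ 0) (ha : β a a = 0) (hb : β b b = 0) :
    ∃ u ∈ M, Lin L (u : Module.End F V) ∧ ∃ s : L, s ≠ 0 ∧ (u : Module.End F V) a = s • b := by
  obtain ⟨j, hj, hjs⟩ := hf.exists_skew'
  have key : ∀ {a b : V}, β a a = 0 → β b b = 0 → β b a ≠ 0 →
      ∃ u ∈ M, Lin L (u : Module.End F V) ∧ ∃ s : L, s ≠ 0 ∧ (u : Module.End F V) a = s • b := fun {a b} ha hb h => by
    have e : β ((j / β b a) • b) a = j := by rw [hf.smul_left, div_mul_cancel₀ _ h]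
    obtain ⟨u, hu, hl, hua⟩ := hM.exists_move_skew (a := a) (b := (j / β b a) • b) ha
      (by rw [hf.smul_left, hf.smul_right, hb, mul_zero, mul_zero]) (by rw [e]; exact hjs) (by rw [e]; exact hj)
    exact ⟨u, hu, hl, _, div_ne_zero hj h, hua⟩
  by_cases h : β b a = 0
  · obtain ⟨c, hc, hca, hcb⟩ := hf.exists_iso_both ha0 hb0 ha h
    obtain ⟨u, hu, hl, s, hs, e⟩ := key ha hc hca
    obtain ⟨w, hw, hwl, t, ht, e'⟩ := key hc hb (fun e0 => hcb (hf.zero_symm e0))
    exact ⟨w * u, mul_mem hw hu, hwl.mul hl, s * t, mul_ne_zero hs ht, by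
      rw [Units.val_mul, Module.End.mul_apply, e, hwl, e', smul_smul]⟩
  · exact key ha hb h

/-- Outside the normaliser the image of some isotropic line is not a line. -/
theorem exists_bent {u : (Module.End F V)ˣ}
    (hn : ¬ ∀ s : L, ∃ t : L, ∀ v : V, (u : Module.End F V) (s • v) = t • (u : Module.End F V) v) :
    ∃ a : V, a ≠ 0 ∧ β a a = 0 ∧ (line F L a).map (u : Module.End F V) ≠ line F L ((u : Module.End F V) a) := by
  by_contra hcon
  push Not at hcon
  refine hn fun s => ?_
  have hu0 : ∀ {v : V}, v ≠ 0 → (u : Module.End F V) v ≠ 0 := fun hv e =>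
    hv (map_unit_inj u (e.trans (map_zero _).symm))
  have hex : ∀ a : V, β a a = 0 → ∃ t : L, t • (u : Module.End F V) a = (u : Module.End F V) (s • a) := fun a ha => by
    rcases eq_or_ne a 0 with rfl | ha0
    · exact ⟨0, by simp⟩
    exact mem_line.1 (hcon a ha0 ha ▸ Submodule.mem_map_of_mem (smul_mem_line a s))
  choose t ht using hex
  let X : L → Submodule F V := fun c =>
    LinearMap.ker ((u : Module.End F V) ∘ₗ (LinearMap.lsmul L V s).restrictScalars F -
      (LinearMap.lsmul L V c).restrictScalars F ∘ₗ (u : Module.End F V))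
  have hX : ∀ c v, v ∈ X c ↔ (u : Module.End F V) (s • v) = c • (u : Module.End F V) v := fun c v => by
    simp [X, sub_eq_zero]
  have hpair : ∀ a b (ha : β a a = 0) (hb : β b b = 0), β b a + τ (β b a) = 0 → β b a ≠ 0 → t a ha = t b hb := by
    intro a b ha hb hs h0
    have ha0 : a ≠ 0 := fun e => h0 (by rw [e, hf.zero_right])
    have hab : β (a + b) (a + b) = 0 := by
      rw [hf.add_left, hf.add_right, hf.add_right, ha, hb, hf.herm b a]; linear_combination hs
    have h1 := ht (a + b) hab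
    rw [map_add, smul_add, smul_add, map_add, ← ht a ha, ← ht b hb] at h1
    have h2 : (t (a + b) hab - t a ha) • (u : Module.End F V) a = (t b hb - t (a + b) hab) • (u : Module.End F V) b := by
      linear_combination (norm := module) h1
    by_contra hne
    by_cases h3 : t b hb - t (a + b) hab = 0
    · rw [h3, zero_smul, smul_eq_zero] at h2
      rcases h2 with h2 | h2
      · exact hne ((sub_eq_zero.1 h2).symm.trans (sub_eq_zero.1 h3).symm)
      · exact hu0 ha0 h2
    have hmem : (u : Module.End F V) b ∈ line F L ((u : Module.End F V) a) := by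
      refine mem_line.2 ⟨(t b hb - t (a + b) hab)⁻¹ * (t (a + b) hab - t a ha), ?_⟩
      rw [mul_smul, h2, inv_smul_smul₀ h3]
    rw [← hcon a ha0 ha] at hmem
    obtain ⟨w, hw, e⟩ := hmem
    obtain ⟨l, rfl⟩ := mem_line.1 (map_unit_inj u e ▸ hw : b ∈ line F L a)
    exact h0 (by rw [hf.smul_left, ha, mul_zero])
  -- the line of a vector in a hyperbolic pair has one multiplier
  obtain ⟨j, hj, hjs⟩ := hf.exists_skew'
  obtain ⟨ω, hω, hωne⟩ := hf.exists_omega
  have hfull : ∀ a (ha : β a a = 0), a ≠ 0 → ∀ l : L, l • a ∈ X (t a ha) := by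
    intro a ha ha0 l
    obtain ⟨b, hb, hba⟩ := hf.exists_iso_partner ha0 ha j
    have hfix : ∀ m : L, τ m = m → m • a ∈ X (t a ha) := fun m hm => by
      rcases eq_or_ne m 0 with rfl | hm0
      · simp
      have hma : β (m • a) (m • a) = 0 := by rw [hf.smul_left, hf.smul_right, ha, mul_zero, mul_zero]
      have e : β b (m • a) = m * j := by rw [hf.smul_right, hm, hba]
      rw [hX, ← ht _ hma, hpair (m • a) b hma hb (by rw [e, map_mul, hm, ← mul_add, hjs, mul_zero])
        (by rw [e]; exact mul_ne_zero hm0 hj), ← hpair a b ha hb (by rw [hba, hjs]) (by rw [hba]; exact hj)]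
    set l₁ := (ω - σ ω)⁻¹ • (l - τ l) with hl₁
    have hne : ω - σ ω ≠ 0 := sub_ne_zero.2 hωne
    have h1 : τ l₁ = l₁ := by
      rw [hl₁, hf.tau_smul, map_sub, hf.tinv, map_inv₀, map_sub, hf.sinv, ← neg_sub ω, inv_neg]
      module
    have h2 : τ (l - ω • l₁) = l - ω • l₁ := by
      rw [map_sub, hf.tau_smul, h1]
      have e : (ω - σ ω) • l₁ = l - τ l := by rw [hl₁, smul_inv_smul₀ hne]
      linear_combination (norm := module) e
    have := (X (t a ha)).add_mem (hfix _ h2) ((X (t a ha)).smul_mem ω (hfix _ h1))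
    clear_value l₁
    rwa [← smul_assoc, ← add_smul, sub_add_cancel] at this
  have heq : ∀ a b (ha : β a a = 0) (hb : β b b = 0), β b a ≠ 0 → t a ha = t b hb := by
    intro a b ha hb h0
    have ha0 : a ≠ 0 := fun e => h0 (by rw [e, hf.zero_right])
    have hb0 : b ≠ 0 := fun e => h0 (by rw [e, hf.zero_left])
    have hb' : β ((j / β b a) • b) ((j / β b a) • b) = 0 := by rw [hf.smul_left, hf.smul_right, hb, mul_zero, mul_zero]
    have e : β ((j / β b a) • b) a = j := by rw [hf.smul_left, div_mul_cancel₀ _ h0]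
    have h1 := hpair a _ ha hb' (by rw [e, hjs]) (by rw [e]; exact hj)
    have h2 := (hX _ _).1 (hfull b hb hb0 (j / β b a))
    rw [← ht _ hb'] at h2
    rw [h1]
    exact smul_left_injective L (hu0 (smul_ne_zero (div_ne_zero hj h0) hb0)) h2
  obtain ⟨a₀, ha₀0, ha₀⟩ := hf.exists_iso_vec
  refine ⟨t a₀ ha₀, fun v => (hX _ v).1 (hf.mem_of_iso (fun b hb => ?_) v)⟩
  rcases eq_or_ne b 0 with rfl | hb0
  · exact Submodule.zero_mem _
  have h1 : t a₀ ha₀ = t b hb := by
    by_cases h : β b a₀ = 0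
    · obtain ⟨c, hc, hca, hcb⟩ := hf.exists_iso_both ha₀0 hb0 ha₀ h
      exact (heq a₀ c ha₀ hc hca).trans (heq b c hb hc hcb).symm
    · exact heq a₀ b ha₀ hb h
  have := hfull b hb hb0 1
  rwa [one_smul, ← h1] at this

/-- Outside the normaliser some isotropic line goes to a non-line meeting it. -/
theorem exists_tilted {u : (Module.End F V)ˣ} (hu : u ∈ M)
    (hn : ¬ ∀ s : L, ∃ t : L, ∀ v : V, (u : Module.End F V) (s • v) = t • (u : Module.End F V) v) :
    ∃ g ∈ M, ∃ a : V, a ≠ 0 ∧ β a a = 0 ∧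
      1 ≤ Module.finrank F (line F L a ⊓ (line F L a).map (g : Module.End F V) : Submodule F V) ∧
      (line F L a).map (g : Module.End F V) ≠ line F L a := by
  obtain ⟨a₀, ha₀0, ha₀, hne⟩ := hM.exists_bent hn
  set B := (line F L a₀).map (u : Module.End F V) with hB
  obtain ⟨a, haB, ha0, ha⟩ := hf.exists_isotropic (B := B) (by
    rintro _ ⟨x, hx, rfl⟩ _ ⟨y, hy, rfl⟩
    obtain ⟨s, rfl⟩ := mem_line.1 hx
    obtain ⟨t, rfl⟩ := mem_line.1 hy
    rw [hM.iso u hu, tf, hf.smul_left, hf.smul_right, ha₀, mul_zero, mul_zero, map_zero])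
    (by rw [hB, finrank_map_line u ha₀0])
  obtain ⟨w, hw, hwl, s, hs, hwa⟩ := hM.exists_line_move ha0 ha₀0 ha ha₀
  have hmap : (line F L a).map ((u * w : (Module.End F V)ˣ) : Module.End F V) = B := by
    ext x
    simp only [hB, Submodule.mem_map, mem_line]
    constructor
    · rintro ⟨_, ⟨l, rfl⟩, rfl⟩
      exact ⟨_, ⟨l * s, rfl⟩, by rw [Units.val_mul, Module.End.mul_apply, hwl, hwa, smul_smul]⟩
    · rintro ⟨_, ⟨l, rfl⟩, rfl⟩
      exact ⟨_, ⟨l / s, rfl⟩, by rw [Units.val_mul, Module.End.mul_apply, hwl, hwa, smul_smul, div_mul_cancel₀ _ hs]⟩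
  refine ⟨u * w, mul_mem hu hw, a, ha0, ha, ?_, fun e => hne ?_⟩
  · rw [hmap]
    exact Submodule.one_le_finrank_iff.2 fun e => ha0 ((Submodule.mem_bot F).1 (e ▸ ⟨self_mem_line a, haB⟩))
  · rw [hmap] at e
    have hm : (u : Module.End F V) a₀ ∈ line F L a := e ▸ Submodule.mem_map_of_mem (self_mem_line a₀)
    rw [line_eq_of_mem hm fun e0 => ha₀0 (map_unit_inj u (e0.trans (map_zero _).symm))]
    exact e

end UExt

end CfsgLib.FieldMax.Unitary
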