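import Cfsg.Agent.Lib.FieldMax.Unitary.Diag
import Cfsg.Agent.Lib.FieldMax.Main
import Cfsg.Agent.Lib.Maximal.HermTv

/-!
Maximality of extension-field normalisers of odd prime degree in the special unitary groups.
-/

set_option autoImplicit false
set_option linter.unusedSectionVars false
set_option linter.style.haveILetI false

namespace CfsgLib.FieldMax.Unitary

open scoped Matrix
open Cfsg Cfsg.Geo

universe u

variable {F : Type u} [Field F] [Fintype F] {n q : ℕ}

/-- Adjoint-closed field subalgebras: the data of the form over the extension field. -/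
theorem exists_model {r : ℕ} {K : Subalgebra F (Matrix (Fin n) (Fin n) F)} {σ : F ≃+* F}
    (hf : IsUnitaryForm σ (Cfsg.hermForm n F q)) (hn : r < n) (hK : IsFieldSubalgebra r K) (hr : r.Prime) (hro : Odd r)
    (hac : IsAdjointClosedFor (Cfsg.hermForm n F q) K) :
    ∃ (L : Type u) (_ : Field L) (_ : Algebra F L) (ρ : L →ₐ[F] Matrix (Fin n) (Fin n) F) (_ : Module L (Fin n → F))
      (_ : IsScalarTower F L (Fin n → F)) (τ : L →+* L) (β : (Fin n → F) → (Fin n → F) → L) (ε : Module.Dual F L),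
      Module.finrank F L = r ∧ ρ.range = K ∧ (∀ (x : L) (v : Fin n → F), x • v = ρ x *ᵥ v) ∧
      (∀ u v, Cfsg.hermForm n F q u v = tf β ε u v) ∧ HForm (σ : F →+* F) τ β ε := by
  classical
  haveI : Nonempty (Fin n) := ⟨⟨0, by omega⟩⟩
  obtain ⟨L, iL, aL, ρ, hfin, hρ⟩ := FieldMax.exists_field_model hK
  letI : Module L (Fin n → F) := Module.compHom (Fin n → F)
    ((Matrix.toLinAlgEquiv' (R := F) (n := Fin n)).toAlgHom.toRingHom.comp ρ.toRingHom)
  have hsmul : ∀ (x : L) (v : Fin n → F), x • v = ρ x *ᵥ v := fun _ _ => rfl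
  haveI : IsScalarTower F L (Fin n → F) := ⟨fun a x v => by
    rw [hsmul, hsmul, map_smul]
    exact Matrix.smul_mulVec a (ρ x) v⟩
  haveI : FiniteDimensional F L := Module.finite_of_finrank_pos (by rw [hfin]; exact hr.pos)
  haveI : FiniteDimensional L (Fin n → F) := Module.Finite.of_restrictScalars_finite F L (Fin n → F)
  have hρmem : ∀ x, ρ x ∈ K := fun x => hρ ▸ ⟨x, rfl⟩
  set f := Cfsg.hermForm n F q
  have hex : ∀ x : L, ∃ y : L, ∀ u v, f (x • u) v = f u (y • v) := fun x => by
    obtain ⟨k', hk', h⟩ := hac _ (hρmem x)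
    rw [← hρ] at hk'
    obtain ⟨y, rfl⟩ := hk'
    exact ⟨y, fun u v => h u v⟩
  choose t ht using hex
  obtain ⟨v₀, hv₀⟩ := exists_ne (0 : Fin n → F)
  have huniq : ∀ {x y : L}, (∀ u v, f u (x • v) = f u (y • v)) → x = y := fun {x y} h =>
    smul_left_injective L hv₀ (CfsgLib.Maximal.un_eq_of_forall hf fun u => h u v₀)
  let τ : L →+* L :=
    { toFun := t
      map_one' := huniq fun u v => by rw [← ht, one_smul, one_smul]
      map_mul' := fun x y => huniq fun u v => by rw [← ht, mul_smul, ht, ht, ← mul_smul, mul_comm (t y)]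
      map_zero' := huniq fun u v => by
        rw [← ht, zero_smul, zero_smul, CfsgLib.Maximal.un_zero_left hf, CfsgLib.Maximal.un_zero_right hf]
      map_add' := fun x y => huniq fun u v => by
        rw [← ht, add_smul, hf.add_left, ht, ht, add_smul, CfsgLib.Maximal.un_add_right hf] }
  have hτ : ∀ x u v, f (x • u) v = f u (τ x • v) := ht
  have htinv : ∀ x, τ (τ x) = x := fun x => huniq fun u v => by
    rw [← hτ, hf.herm u (x • v), hτ x v u, ← hf.herm]
  have htalg : ∀ c : F, τ (algebraMap F L c) = algebraMap F L (σ c) := fun c => huniq fun u v => by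
    rw [← hτ, algebraMap_smul, algebraMap_smul, hf.smul_left, CfsgLib.Maximal.un_smul_right hf, hf.involutive]
  have htsmul : ∀ (c : F) x, τ (c • x) = σ c • τ x := fun c x => by
    rw [Algebra.smul_def, map_mul, htalg, ← Algebra.smul_def]
  obtain ⟨ε₀, hε₀⟩ : ∃ ε₀ : Module.Dual F L, ε₀ ≠ 0 := exists_ne 0
  let E : L → Module.Dual F L := fun l =>
    { toFun := fun x => ε₀ (l * x) + σ (ε₀ (l * τ x))
      map_add' := fun x y => by simp only [map_add, mul_add]; abel
      map_smul' := fun c x => by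
        rw [htsmul, mul_smul_comm, mul_smul_comm, map_smul, map_smul, smul_eq_mul, smul_eq_mul, map_mul σ,
          hf.involutive, RingHom.id_apply, smul_eq_mul, mul_add] }
  obtain ⟨l, hε⟩ : ∃ l, E l ≠ 0 := by
    by_contra hcon
    push Not at hcon
    refine hε₀ (LinearMap.ext fun x => ?_)
    obtain ⟨c, hc⟩ : ∃ c : F, σ c ≠ c := by
      by_contra hc
      push Not at hc
      exact hf.ne_refl (RingEquiv.ext hc)
    have h1 : ε₀ (1 * x) + σ (ε₀ (1 * τ x)) = 0 := LinearMap.congr_fun (hcon 1) x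
    have h2 : ε₀ (c • 1 * x) + σ (ε₀ (c • 1 * τ x)) = 0 := LinearMap.congr_fun (hcon (c • 1)) x
    rw [smul_mul_assoc, smul_mul_assoc, map_smul, map_smul, smul_eq_mul, smul_eq_mul, map_mul σ] at h2
    rw [one_mul, one_mul] at h1 h2
    exact (mul_eq_zero.1 (show (c - σ c) * ε₀ x = 0 by linear_combination h2 - σ c * h1)).resolve_left
      (sub_ne_zero.2 (Ne.symm hc))
  set ε := E l with hεdef
  have hετ : ∀ x, ε (τ x) = σ (ε x) := fun x => by
    show ε₀ (l * τ x) + σ (ε₀ (l * τ (τ x))) = σ (ε₀ (l * x) + σ (ε₀ (l * τ x)))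
    rw [htinv, map_add, hf.involutive, add_comm]
  have hb' : ∀ u v : Fin n → F, ∃ x : L, ∀ c : L, ε (c * x) = f (c • u) v := by
    intro u v
    let φ : Module.Dual F L :=
      { toFun := fun c => f (c • u) v
        map_add' := fun c d => by rw [add_smul, hf.add_left]
        map_smul' := fun a c => by rw [smul_assoc, hf.smul_left]; rfl }
    obtain ⟨μ, hμ⟩ := FieldMax.exists_form ε hε φ (L := L) (V := L)
    refine ⟨μ 1, fun c => ?_⟩
    rw [← smul_eq_mul, ← map_smul, smul_eq_mul, mul_one, ← hμ]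
    rfl
  choose b hb using hb'
  have hu : ∀ {x y : L}, (∀ c, ε (c * x) = ε (c * y)) → x = y := fun {x y} h => by
    by_contra hne
    refine hε (LinearMap.ext fun z => ?_)
    have := h (z / (x - y))
    rw [← sub_eq_zero, ← map_sub, ← mul_sub, div_mul_cancel₀ _ (sub_ne_zero.2 hne)] at this
    exact this
  refine ⟨L, iL, aL, ρ, inferInstance, inferInstance, τ, b, ε, hfin, hρ, hsmul, fun u v => ?_, ?_⟩
  · show f u v = ε (b u v)
    rw [← one_mul (b u v), hb, one_smul]
  refine ⟨fun u u' v => hu fun c => ?_, fun s u v => hu fun c => ?_, fun u v => hu fun c => ?_, fun u h => ?_,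
    hf.involutive, ?_, htinv, htalg, hε, hετ, hfin ▸ hr, hfin ▸ hro, ?_⟩
  · rw [mul_add, map_add, hb, hb, hb, smul_add, hf.add_left]
  · rw [hb, ← mul_assoc, hb, mul_smul]
  · have e : c * τ (b u v) = τ (τ c * b u v) := by rw [map_mul, htinv]
    rw [hb, e, hετ, hb, ← hf.herm, hτ]
  · by_contra hu0
    obtain ⟨y, hy⟩ := CfsgLib.Maximal.un_exists hf u hu0
    have := hb u y 1
    rw [h, mul_zero, map_zero, one_smul, hy] at this
    exact zero_ne_one this
  · by_contra hc
    push Not at hc
    exact hf.ne_refl (RingEquiv.ext hc)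
  · have hdim : r * Module.finrank L (Fin n → F) = n := by
      rw [← hfin, Module.finrank_mul_finrank, Module.finrank_fintype_fun_eq_card, Fintype.card_fin]
    rcases Nat.lt_or_ge 1 (Module.finrank L (Fin n → F)) with h | h
    · exact h
    · have := Nat.mul_le_mul_left r h
      omega

/-- The normaliser of a field of odd prime degree below the dimension is maximal in the special unitary group. -/
theorem unitary_field_maximal (hF : Fintype.card F = q ^ 2) {r : ℕ} (hlt : r < n) (hex : ¬ (q = 2 ∧ r = 3 ∧ n = 6))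
    (hr : r.Prime) (hro : Odd r) {K : Subalgebra F (Matrix (Fin n) (Fin n) F)} (hK : IsFieldSubalgebra r K)
    (hac : IsAdjointClosedFor (Cfsg.hermForm n F q) K) :
    IsMaximalIn (Cfsg.GU n F q ⊓ Cfsg.Geo.specialLinear (Fin n) F)
      (subalgebraNormalizer K ⊓ (Cfsg.GU n F q ⊓ Cfsg.Geo.specialLinear (Fin n) F)) := by
  classical
  have hr3 : 3 ≤ r := by
    rcases eq_or_lt_of_le hr.two_le with h | h
    · exact absurd hro (by rw [← h]; decide)
    · omega
  have hn4 : 4 ≤ n := by omega
  haveI : Nonempty (Fin n) := ⟨⟨0, by omega⟩⟩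
  obtain ⟨σ, hσq, hf⟩ := CfsgLib.Maximal.exists_hermSigma (F := F) hF n
  obtain ⟨L, iL, aL, ρ, iM, iT, τ, β, ε, hfin, hρ, hsmul, hff, hH⟩ := exists_model hf hlt hK hr hro hac
  haveI : FiniteDimensional F L := Module.finite_of_finrank_pos (by rw [hfin]; exact hr.pos)
  haveI : FiniteDimensional L (Fin n → F) := Module.Finite.of_restrictScalars_finite F L (Fin n → F)
  have hρmem : ∀ x, ρ x ∈ K := fun x => hρ ▸ ⟨x, rfl⟩
  have hρK : ∀ k ∈ K, ∃ x, ρ x = k := fun k hk => by rw [← hρ] at hk; exact hk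
  set T := (Matrix.GeneralLinearGroup.toLin (n := Fin n) (R := F))
  constructor
  · refine lt_of_le_of_ne inf_le_right fun e => ?_
    have hle : CfsgLib.Maximal.suGL n F q ≤ subalgebraNormalizer K := inf_eq_right.1 e
    obtain ⟨s, hs⟩ : ∃ s : L, s ∉ Set.range (algebraMap F L) := by
      by_contra hcon
      push Not at hcon
      have hsur : Function.Surjective (Algebra.linearMap F L) := hcon
      have hd := LinearMap.finrank_range_le (Algebra.linearMap F L)
      rw [LinearMap.range_eq_top.2 hsur, finrank_top, Module.finrank_self, hfin] at hd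
      exact absurd hr.two_le (by omega)
    obtain ⟨w, hw, hww⟩ := hH.exists_iso_vec
    have hw' : Cfsg.hermForm n F q w w = 0 := by rw [hff, tf, hww, map_zero]
    obtain ⟨c, hc0, hc⟩ := CfsgLib.Maximal.un_skew_exists hf
    have hk := (hle (CfsgLib.Maximal.utv_mem_su hf hw' hc) (ρ s)).1 (hρmem s)
    obtain ⟨t, ht⟩ := hρK _ hk
    set g := CfsgLib.Maximal.tv (c • w) (CfsgLib.Maximal.fvec (Cfsg.hermForm n F q) w)
      (CfsgLib.Maximal.un_tv_dot hf hw' c)
    have hg : ∀ x : Fin n → F, (g : Matrix (Fin n) (Fin n) F) *ᵥ x = x + (c * tf β ε x w) • w := fun x => by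
      rw [CfsgLib.Maximal.tv_mulVec, CfsgLib.Maximal.un_dot hf, smul_smul, hff, mul_comm]
    have hv : ∀ v, t • (v + (c * tf β ε v w) • w) = s • v + (c * tf β ε (s • v) w) • w := fun v => by
      rw [← hg, ← hg, hsmul, hsmul, ht, Matrix.mulVec_mulVec, Matrix.mulVec_mulVec, mul_assoc (_ * ρ s),
        ← Units.val_mul, inv_mul_cancel, Units.val_one, mul_one]
    let φ : (Fin n → F) →ₗ[F] F × F :=
      (hlin hH w).prod (hlin hH w ∘ₗ (LinearMap.lsmul L (Fin n → F) s).restrictScalars F)
    obtain ⟨v, hv', hv0⟩ := (LinearMap.ker φ).exists_mem_ne_zero_of_ne_bot fun e => by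
      have := LinearMap.finrank_le_finrank_of_injective (LinearMap.ker_eq_bot.1 e)
      rw [Module.finrank_prod, Module.finrank_self, Module.finrank_fintype_fun_eq_card, Fintype.card_fin] at this
      omega
    have h0 : tf β ε v w = 0 ∧ tf β ε (s • v) w = 0 :=
      ⟨congrArg Prod.fst (LinearMap.mem_ker.1 hv'), congrArg Prod.snd (LinearMap.mem_ker.1 hv')⟩
    have hts : t = s := by
      have := hv v
      simp only [h0.1, h0.2, mul_zero, zero_smul, add_zero] at this
      exact smul_left_injective L hv0 this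
    obtain ⟨y, hy⟩ := hH.h_exists hw 1
    have h1 := hv y
    rw [hy, mul_one, hts, smul_add, add_right_inj, smul_comm s c w, mul_smul] at h1
    rw [← algebraMap_smul L (tf β ε (s • y) w) w] at h1
    exact hs ⟨_, (smul_left_injective L hw (smul_right_injective _ hc0 h1)).symm⟩
  intro M hM hMS
  by_cases hsub : M ≤ subalgebraNormalizer K
  · exact Or.inl (le_antisymm (le_inf hsub hMS) hM)
  refine Or.inr (le_antisymm hMS ?_)
  obtain ⟨g, hg, hgn⟩ := SetLike.not_le_iff_exists.1 hsub
  have hSU : HasSU F L β (M.map T.toMonoidHom) := by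
    intro f hfiso hdet
    have hdet' : (LinearMap.toMatrix' (f.restrictScalars F)).det = 1 := by
      rw [LinearMap.det_toMatrix', LinearMap.det_restrictScalars, hdet]
    let u : GL (Fin n) F := Matrix.GeneralLinearGroup.mkOfDetNeZero (LinearMap.toMatrix' (f.restrictScalars F))
      (by rw [hdet']; exact one_ne_zero)
    have hu : ∀ v, (u : Matrix (Fin n) (Fin n) F) *ᵥ v = f v := fun v => LinearMap.toMatrix'_mulVec _ _
    refine ⟨T u, Subgroup.mem_map_of_mem _ (hM ⟨FieldMax.mem_normalizer_of_commute fun k hk => ?_, ?_, ?_⟩),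
      LinearMap.ext hu⟩
    · refine Matrix.ext_of_mulVec_single fun i => ?_
      obtain ⟨x, rfl⟩ := hρK k hk
      rw [← Matrix.mulVec_mulVec, ← Matrix.mulVec_mulVec, hu, hu]
      rw [← hsmul, ← hsmul]
      exact f.map_smul x _
    · refine (CfsgLib.Maximal.mem_GU_iff _).2 fun v v' => ?_
      rw [hu, hu, hff, hff, tf, hfiso, tf]
    · exact (CfsgLib.Maximal.mem_specialLinear_iff _).2 hdet'
  have hiso : ∀ u ∈ M.map T.toMonoidHom, ∀ v v', tf β ε ((u : Module.End F (Fin n → F)) v)
      ((u : Module.End F (Fin n → F)) v') = tf β ε v v' := by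
    rintro _ ⟨h, hh, rfl⟩ v v'
    rw [← hff, ← hff]
    exact (CfsgLib.Maximal.mem_GU_iff h).1 (hMS hh).1 v v'
  have hgn' : ¬ ∀ s : L, ∃ t : L, ∀ v, (T g : Module.End F (Fin n → F)) (s • v) =
      t • (T g : Module.End F (Fin n → F)) v := by
    intro h
    refine hgn (FieldMax.mem_normalizer_of_le fun k hk => ?_)
    obtain ⟨x, rfl⟩ := hρK k hk
    obtain ⟨t, ht⟩ := h x
    have e : (g : Matrix (Fin n) (Fin n) F) * ρ x = ρ t * g := Matrix.ext_of_mulVec_single fun i => by
      rw [← Matrix.mulVec_mulVec, ← Matrix.mulVec_mulVec, ← hsmul, ← hsmul]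
      exact ht _
    rw [e, mul_assoc, ← Units.val_mul, mul_inv_cancel, Units.val_one, mul_one]
    exact hρmem t
  have hex' : ¬ (Nat.card (fld (σ : F →+* F)) = 2 ∧ Module.finrank F L = 3 ∧
      Module.finrank L (Fin n → F) = 2) := by
    rintro ⟨h1, h2, h3⟩
    refine hex ⟨?_, hfin ▸ h2, ?_⟩
    · have := hH.card_fld
      rw [h1, hF] at this
      exact (Nat.pow_left_injective (by norm_num) this).symm
    · have := Module.finrank_mul_finrank F L (Fin n → F)
      rw [h2, h3, Module.finrank_fintype_fun_eq_card, Fintype.card_fin] at this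
      omega
  refine CfsgLib.Maximal.suGL_le_of_full hf hF hn4 fun v hv k hk => ?_
  have hfull := hH.full_of_hasSU hSU hiso hex' (u := T g) (Subgroup.mem_map_of_mem _ hg) hgn'
    (x := v) (by rw [← hff]; exact hv) k (by show k + σ k = 0; rw [hk, add_neg_cancel])
  refine ⟨CfsgLib.Maximal.un_tv_dot hf hv k, FieldMax.mem_of_hom hfull _ fun x => ?_⟩
  rw [CfsgLib.Maximal.tv_mulVec, CfsgLib.Maximal.un_dot hf, hff, sgl_apply, hH.h_zero_right, smul_zero, zero_smul,
    sub_zero, zero_add, smul_smul, mul_comm]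

end CfsgLib.FieldMax.Unitary
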