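import Cfsg.Agent.Lib.FieldMax.Unitary.Full

/-!
One full centre gives all: the transvections spread over every isotropic vector.
-/

set_option autoImplicit false
set_option linter.unusedSectionVars false
set_option linter.style.haveILetI false

namespace CfsgLib.FieldMax.Unitary

variable {F L V : Type*} [Field F] [Field L] [Algebra F L] [AddCommGroup V] [Module F V] [Module L V]
  [IsScalarTower F L V]
variable {σ : F →+* F} {τ : L →+* L} {β : V → V → L} {ε : Module.Dual F L}
variable [Fintype F] [FiniteDimensional F L] [FiniteDimensional L V] [FiniteDimensional F V]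

/-- A multiplier on an isotropic line outside the products of the two fixed fields. -/
def Twist (F L : Type*) {V : Type*} [Field F] [Field L] [Algebra F L] [AddCommGroup V] [Module F V] [Module L V]
    (τ : L →+* L) (β : V → V → L) (M : Subgroup (Module.End F V)ˣ) : Prop :=
  ∀ a : V, a ≠ 0 → β a a = 0 →
    ∃ u ∈ M, ∃ m : L, (∀ x : L, (u : Module.End F V) (x • a) = (x * m) • a) ∧ ∀ (f : F) (l : L), τ l = l → m ≠ f • l

namespace UExt

variable {hf : HForm σ τ β ε} {M : Subgroup (Module.End F V)ˣ} (hM : UExt hf M)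

include hM

omit hM in
theorem full_zero : Full hf M (0 : V) := fun e _ => by
  rw [show sgl hf (0 : V) 0 e = 0 from LinearMap.ext fun v => by simp [sgl_apply, hf.h_zero_right]]
  exact Mem.zero

/-- Full centres are closed under the moves between vectors with skew product. -/
theorem full_skew {a y : V} (h : Full hf M a) (ha : β a a = 0) (hy : β y y = 0) (hs : β y a + τ (β y a) = 0)
    (h0 : β y a ≠ 0) : Full hf M y := by
  obtain ⟨u, hu, -, hua⟩ := hM.exists_move_skew ha hy hs h0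
  exact hua ▸ hM.full_map hu h

/-- A transvection at a full centre moves full centres. -/
theorem full_step {v x : V} (hv : Full hf M v) (hx : Full hf M x) {e : F} (he : e + σ e = 0) :
    Full hf M (x + (e * tf β ε x v) • v) := by
  obtain ⟨u, hu, eu⟩ := hv e he
  have h := hM.full_map hu hx
  simpa [eu, sgl_apply, hf.h_zero_right] using h

omit hM in
theorem exists_avoid {X : Type*} [AddCommGroup X] [Module (fld σ) X] (f g : X →ₗ[fld σ] F) (hf' : f ≠ 0) (hg : g ≠ 0) :
    ∃ x, f x ≠ 0 ∧ g x ≠ 0 := by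
  obtain ⟨x, hx⟩ := DFunLike.ne_iff.1 hf'
  obtain ⟨y, hy⟩ := DFunLike.ne_iff.1 hg
  rw [LinearMap.zero_apply] at hx hy
  by_cases h1 : g x = 0
  · by_cases h2 : f y = 0
    · exact ⟨x + y, by rw [map_add, h2, add_zero]; exact hx, by rw [map_add, h1, zero_add]; exact hy⟩
    · exact ⟨y, h2, hy⟩
  · exact ⟨x, hx, h1⟩

/-- Transitivity on isotropic pairs of a real form spreads full centres. -/
theorem full_real (V₀ : Submodule (fld σ) V) (hskew : ∀ X ∈ V₀, ∀ Y ∈ V₀, tf β ε X Y + σ (tf β ε X Y) = 0)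
    (hiso : ∀ X ∈ V₀, tf β ε X X = 0) (hnd : ∀ X ∈ V₀, (∀ Y ∈ V₀, tf β ε X Y = 0) → X = 0)
    (hfull : ∀ X ∈ V₀, Full hf M X) {ω : F} {X₀ Y₀ : V} (hX₀ : X₀ ∈ V₀) (hY₀ : Y₀ ∈ V₀)
    (h₀ : tf β ε X₀ Y₀ = 0) (hi₀ : Y₀ ∉ Submodule.span (fld σ) {X₀}) (hX₀0 : X₀ ≠ 0) (hP : Full hf M (X₀ + ω • Y₀))
    {X Y : V} (hX : X ∈ V₀) (hY : Y ∈ V₀) (hXY : tf β ε X Y = 0) : Full hf M (X + ω • Y) := by
  by_cases hX0 : X = 0
  · rw [hX0, zero_add]; exact (hfull Y hY).smul ω
  by_cases hi : Y ∈ Submodule.span (fld σ) {X}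
  · obtain ⟨c, hc⟩ := Submodule.mem_span_singleton.1 hi
    rw [← hc, fld_smul, smul_smul, show X + (ω * (c : F)) • X = (1 + ω * (c : F)) • X by rw [add_smul, one_smul]]
    exact (hfull X hX).smul _
  have hlin : ∀ v A B : V, ∀ e : F, A + ω • B + (e * tf β ε (A + ω • B) v) • v =
      (A + (e * tf β ε A v) • v) + ω • (B + (e * tf β ε B v) • v) := fun v A B e => by
    rw [hf.h_add_left, hf.h_smul_left]; module
  have hfix : ∀ {u v : V}, u ∈ V₀ → v ∈ V₀ → ∀ {e : F}, e + σ e = 0 → σ (e * tf β ε u v) = e * tf β ε u v :=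
    fun {u v} hu hv {e} he => by
      rw [map_mul, eq_neg_of_add_eq_zero_right he, eq_neg_of_add_eq_zero_right (hskew _ hu _ hv), neg_mul_neg]
  have hstay : ∀ {u v : V}, u ∈ V₀ → v ∈ V₀ → ∀ {e : F}, e + σ e = 0 → u + (e * tf β ε u v) • v ∈ V₀ :=
    fun {u v} hu hv {e} he => V₀.add_mem hu (by
      have := V₀.smul_mem ⟨_, hfix hu hv he⟩ hv
      rwa [fld_smul] at this)
  -- one step on the first member
  have step1 : ∀ {A B A' : V}, A ∈ V₀ → B ∈ V₀ → A' ∈ V₀ → tf β ε A A' ≠ 0 → tf β ε A B = 0 →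
      Full hf M (A + ω • B) → B ∉ Submodule.span (fld σ) {A} →
      ∃ B', B' ∈ V₀ ∧ tf β ε A' B' = 0 ∧ Full hf M (A' + ω • B') ∧ B' ∉ Submodule.span (fld σ) {A'} := by
    intro A B A' hA hB hA' hAA' hAB hAf hi
    have hv : A' - A ∈ V₀ := V₀.sub_mem hA' hA
    have hAv : tf β ε A (A' - A) = tf β ε A A' := by rw [hf.h_sub_right, hiso A hA, sub_zero]
    set e := (tf β ε A A')⁻¹ with he'
    have he : e + σ e = 0 := by
      rw [he', map_inv₀, eq_neg_of_add_eq_zero_right (hskew A hA A' hA'), inv_neg, add_neg_cancel]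
    have h1 : A + (e * tf β ε A (A' - A)) • (A' - A) = A' := by
      rw [hAv, he', inv_mul_cancel₀ hAA', one_smul, add_sub_cancel]
    obtain ⟨u, hu, eu⟩ := hfull _ hv e he
    have hu' : ∀ x, (u : Module.End F V) x = x + (e * tf β ε x (A' - A)) • (A' - A) := fun x => by
      simp [eu, sgl_apply, hf.h_zero_right]
    refine ⟨(u : Module.End F V) B, by rw [hu']; exact hstay hB hv he, ?_, ?_, fun h => hi ?_⟩
    · rw [← h1, ← hu', hM.iso u hu, hAB]
    · rw [← h1, ← hu', ← map_smul, ← map_add]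
      exact hM.full_map hu hAf
    · obtain ⟨c, hc⟩ := Submodule.mem_span_singleton.1 h
      rw [← h1, ← hu', fld_smul, ← map_smul] at hc
      exact Submodule.mem_span_singleton.2 ⟨c, map_unit_inj u hc⟩
  let hl : V → V₀ →ₗ[fld σ] F := fun v => (CfsgLib.FieldMax.Unitary.hlin hf v).restrictScalars (fld σ) ∘ₗ V₀.subtype
  have hl_apply : ∀ v (x : V₀), hl v x = tf β ε (x : V) v := fun v x => rfl
  have hl_ne : ∀ {A : V}, A ∈ V₀ → A ≠ 0 → hl A ≠ 0 := fun {A} hA hA0 e =>
    hA0 (hnd A hA fun Z hZ => hf.h_zero_symm (LinearMap.congr_fun e ⟨Z, hZ⟩))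
  -- the first member
  obtain ⟨B, hB, hXB, hBf, hBi⟩ : ∃ B, B ∈ V₀ ∧ tf β ε X B = 0 ∧ Full hf M (X + ω • B) ∧
      B ∉ Submodule.span (fld σ) {X} := by
    by_cases h : tf β ε X₀ X = 0
    · obtain ⟨W, hW1, hW2⟩ := exists_avoid (hl X₀) (hl X) (hl_ne hX₀ hX₀0) (hl_ne hX hX0)
      rw [hl_apply] at hW1 hW2
      obtain ⟨B, hB, hWB, hBf, hBi⟩ := step1 hX₀ hY₀ W.2 (fun e => hW1 (hf.h_zero_symm e)) h₀ hP hi₀
      exact step1 W.2 hB hX hW2 hWB hBf hBi
    · exact step1 hX₀ hY₀ hX h h₀ hP hi₀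
  -- the second member
  have step2 : ∀ {B B' : V}, B ∈ V₀ → B' ∈ V₀ → tf β ε X B = 0 → tf β ε X B' = 0 → tf β ε B B' ≠ 0 →
      Full hf M (X + ω • B) → Full hf M (X + ω • B') := by
    intro B B' hB hB' h1 h2 h3 hBf
    have hv : B' - B ∈ V₀ := V₀.sub_mem hB' hB
    have hBv : tf β ε B (B' - B) = tf β ε B B' := by rw [hf.h_sub_right, hiso B hB, sub_zero]
    have he : (tf β ε B B')⁻¹ + σ (tf β ε B B')⁻¹ = 0 := by
      rw [map_inv₀, eq_neg_of_add_eq_zero_right (hskew B hB B' hB'), inv_neg, add_neg_cancel]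
    have h4 := hM.full_step (hfull _ hv) hBf he
    rwa [hlin, hBv, inv_mul_cancel₀ h3, one_smul, add_sub_cancel, hf.h_sub_right, h1, h2, sub_zero, mul_zero,
      zero_smul, add_zero] at h4
  by_cases h : tf β ε B Y = 0
  · let P : Submodule (fld σ) V₀ := LinearMap.ker (hl X)
    have hne : ∀ {C : V}, C ∈ V₀ → tf β ε X C = 0 → C ∉ Submodule.span (fld σ) {X} → (hl C) ∘ₗ P.subtype ≠ 0 := by
      intro C hC hXC hCi e
      obtain ⟨Z, hZ⟩ := DFunLike.ne_iff.1 (hl_ne hX hX0)
      rw [LinearMap.zero_apply, hl_apply] at hZ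
      set c := tf β ε (Z : V) C / tf β ε (Z : V) X with hc
      have hcs : σ c = c := by
        rw [hc, map_div₀, eq_neg_of_add_eq_zero_right (hskew _ Z.2 C hC),
          eq_neg_of_add_eq_zero_right (hskew _ Z.2 X hX), neg_div_neg_eq]
      refine hCi (Submodule.mem_span_singleton.2 ⟨⟨c, hcs⟩, ?_⟩)
      rw [fld_smul]
      refine (sub_eq_zero.1 (hnd _ (V₀.sub_mem hC (by
        have := V₀.smul_mem ⟨c, hcs⟩ hX; rwa [fld_smul] at this)) fun W hW => hf.h_zero_symm ?_)).symm
      set d := tf β ε W X / tf β ε (Z : V) X with hd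
      have hds : σ d = d := by
        rw [hd, map_div₀, eq_neg_of_add_eq_zero_right (hskew W hW X hX),
          eq_neg_of_add_eq_zero_right (hskew _ Z.2 X hX), neg_div_neg_eq]
      have hmem : W - d • (Z : V) ∈ V₀ := V₀.sub_mem hW (by
        have := V₀.smul_mem ⟨d, hds⟩ Z.2; rwa [fld_smul] at this)
      have h0 := LinearMap.congr_fun e ⟨⟨_, hmem⟩, show hl X ⟨_, hmem⟩ = 0 by
        rw [hl_apply]
        show tf β ε (W - d • (Z : V)) X = 0
        rw [hf.h_sub_left, hf.h_smul_left, hd, div_mul_cancel₀ _ hZ, sub_self]⟩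
      simp only [LinearMap.comp_apply, Submodule.subtype_apply, hl_apply, LinearMap.zero_apply, hf.h_sub_left,
        hf.h_smul_left] at h0
      rw [hf.h_sub_right, hf.h_smul_right, hcs]
      rw [hd, hc] at *
      field_simp at h0 ⊢
      linear_combination h0
    obtain ⟨W, hW1, hW2⟩ := exists_avoid _ _ (hne hB hXB hBi) (hne hY hXY hi)
    simp only [LinearMap.comp_apply, Submodule.subtype_apply, hl_apply] at hW1 hW2
    have hXW : tf β ε X (W : V₀) = 0 := hf.h_zero_symm (LinearMap.mem_ker.1 W.2)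
    exact step2 (W : V₀).2 hY hXW hXY hW2
      (step2 hB (W : V₀).2 hXB hXW (fun e => hW1 (hf.h_zero_symm e)) hBf)
  · exact step2 hB hY hXB hXY h hBf

/-- All multiples of a full isotropic vector are full. -/
theorem full_line (hmu : Twist F L τ β M) {a : V} (ha0 : a ≠ 0) (ha : β a a = 0) (h : Full hf M a) (s : L) :
    Full hf M (s • a) := by
  obtain ⟨j, hj, hjs⟩ := hf.exists_skew'
  obtain ⟨ω, hω, hωne⟩ := hf.exists_omega
  obtain ⟨b, hb, hba⟩ := hf.exists_iso_partner ha0 ha j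
  have hab : β a b = -j := by rw [hf.herm, hba]; exact eq_neg_of_add_eq_zero_right hjs
  let V₀ : Submodule (fld σ) V :=
    { carrier := {v | ∃ A B : L, τ A = A ∧ τ B = B ∧ A • a + B • b = v}
      zero_mem' := ⟨0, 0, map_zero τ, map_zero τ, by simp⟩
      add_mem' := by
        rintro _ _ ⟨A, B, hA, hB, rfl⟩ ⟨A', B', hA', hB', rfl⟩
        exact ⟨A + A', B + B', by rw [map_add, hA, hA'], by rw [map_add, hB, hB'], by simp [add_smul]; abel⟩
      smul_mem' := by
        rintro c _ ⟨A, B, hA, hB, rfl⟩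
        refine ⟨c • A, c • B, ?_, ?_, by rw [fld_smul, fld_smul, fld_smul, smul_assoc, smul_assoc, smul_add]⟩
        · rw [fld_smul, hf.tau_smul, hA, show σ (c : F) = c from c.2]
        · rw [fld_smul, hf.tau_smul, hB, show σ (c : F) = c from c.2] }
  have hval : ∀ A B A' B' : L, τ A' = A' → τ B' = B' →
      β (A • a + B • b) (A' • a + B' • b) = j * (B * A' - A * B') := fun A B A' B' hA hB => by
    simp only [hf.add_left, hf.add_right, hf.smul_left, hf.smul_right, ha, hb, hba, hab, hA, hB]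
    ring
  have hVfull : ∀ X ∈ V₀, Full hf M X := by
    rintro _ ⟨A, B, hA, hB, rfl⟩
    have hiso : β (A • a + B • b) (A • a + B • b) = 0 := by rw [hval A B A B hA hB]; ring
    by_cases hB0 : B = 0
    · subst hB0
      rw [zero_smul, add_zero]
      rcases eq_or_ne A 0 with rfl | hA0
      · rw [zero_smul]; exact full_zero
      refine hM.full_skew (hM.full_skew h ha hb (by rw [hba, hjs]) (by rw [hba]; exact hj)) hb
        (by rw [hf.smul_left, hf.smul_right, ha, mul_zero, mul_zero]) ?_ ?_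
      · rw [hf.smul_left, hab, map_mul, hA, map_neg, eq_neg_of_add_eq_zero_right hjs]; ring
      · rw [hf.smul_left, hab]; exact mul_ne_zero hA0 (neg_ne_zero.2 hj)
    · have e : β (A • a + B • b) a = B * j := by
        simp [hf.add_left, hf.smul_left, ha, hba]
      exact hM.full_skew h ha hiso (by rw [e, map_mul, hB, ← mul_add, hjs, mul_zero])
        (by rw [e]; exact mul_ne_zero hB0 hj)
  have hskew : ∀ X ∈ V₀, ∀ Y ∈ V₀, tf β ε X Y + σ (tf β ε X Y) = 0 := by
    rintro _ ⟨A, B, hA, hB, rfl⟩ _ ⟨A', B', hA', hB', rfl⟩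
    rw [tf, hval A B A' B' hA' hB', ← hf.eps_tau, ← map_add]
    convert map_zero ε using 2
    rw [map_mul, map_sub, map_mul, map_mul, hA, hB, hA', hB', ← add_mul, hjs, zero_mul]
  have hiso : ∀ X ∈ V₀, tf β ε X X = 0 := by
    rintro _ ⟨A, B, hA, hB, rfl⟩
    rw [tf, hval A B A B hA hB]
    convert map_zero ε using 2
    ring
  obtain ⟨x₀, hx₀, hx₀ε⟩ := hf.exists_fixed_eps
  obtain ⟨jF, hjF, hjFs⟩ := hf.exists_skew
  have hnd : ∀ X ∈ V₀, (∀ Y ∈ V₀, tf β ε X Y = 0) → X = 0 := by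
    rintro _ ⟨A, B, hA, hB, rfl⟩ h0
    set k : L := jF • 1 with hk
    have hk0 : k ≠ 0 := by simp [hk, Algebra.smul_def, hjF]
    have hτk : τ k = -k := by rw [hk, hf.tau_smul, map_one, eq_neg_of_add_eq_zero_right hjFs, neg_smul]
    have hjk : τ (j / k) = j / k := by rw [map_div₀, eq_neg_of_add_eq_zero_right hjs, hτk, neg_div_neg_eq]
    have hjk0 : j / k ≠ 0 := div_ne_zero hj hk0
    have key : ∀ A' B' : L, τ A' = A' → τ B' = B' → j / k * (B * A' - A * B') = x₀ → False := fun A' B' h1 h2 h3 => by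
      have h4 := h0 _ ⟨A', B', h1, h2, rfl⟩
      rw [tf, hval A B A' B' h1 h2, show j * (B * A' - A * B') = k * (j / k * (B * A' - A * B')) by
        rw [← mul_assoc, mul_div_cancel₀ _ hk0], h3, hk, smul_mul_assoc, one_mul, map_smul, smul_eq_mul, mul_eq_zero]
        at h4
      exact hx₀ε (h4.resolve_left hjF)
    by_cases hB0 : B = 0
    · by_cases hA0 : A = 0
      · rw [hA0, hB0, zero_smul, zero_smul, add_zero]
      exfalso
      refine key 0 (-(x₀ / (j / k * A))) (map_zero τ) ?_ ?_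
      · rw [map_neg, map_div₀, hx₀, map_mul, hjk, hA]
      · field_simp; ring
    · exfalso
      refine key (x₀ / (j / k * B)) 0 ?_ (map_zero τ) ?_
      · rw [map_div₀, hx₀, map_mul, hjk, hB]
      · field_simp; ring
  -- decompositions along the fixed field
  have hdec : ∀ l : L, ∃ A B : L, τ A = A ∧ τ B = B ∧ A + ω • B = l := fun l => by
    set B := (ω - σ ω)⁻¹ • (l - τ l) with hB
    have h1 : τ B = B := by
      rw [hB, hf.tau_smul, map_sub, hf.tinv, map_inv₀, map_sub, hf.sinv, ← neg_sub ω, inv_neg]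
      module
    refine ⟨l - ω • B, B, ?_, h1, sub_add_cancel _ _⟩
    rw [map_sub, hf.tau_smul, h1]
    have e : (ω - σ ω) • B = l - τ l := by rw [hB, smul_inv_smul₀ (sub_ne_zero.2 hωne)]
    linear_combination (norm := module) e
  obtain ⟨u, hu, m, hum, hm⟩ := hmu a ha0 ha
  obtain ⟨m₀, m₁, hm₀, hm₁, hmd⟩ := hdec m
  obtain ⟨s₀, s₁, hs₀, hs₁, hsd⟩ := hdec s
  have hmem : ∀ A : L, τ A = A → A • a ∈ V₀ := fun A hA => ⟨A, 0, hA, map_zero τ, by simp⟩
  have hzero : ∀ A B : L, tf β ε (A • a) (B • a) = 0 := fun A B => by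
    rw [tf, hf.smul_left, hf.smul_right, ha, mul_zero, mul_zero, map_zero]
  have hm0' : m₀ ≠ 0 := fun e => hm ω m₁ hm₁ (by rw [← hmd, e, zero_add])
  have hind : m₁ • a ∉ Submodule.span (fld σ) {m₀ • a} := fun hin => by
    obtain ⟨c, hc⟩ := Submodule.mem_span_singleton.1 hin
    rw [fld_smul, ← smul_assoc] at hc
    have hc' := smul_left_injective L ha0 hc
    exact hm (1 + ω * (c : F)) m₀ hm₀ (by rw [← hmd, ← hc', smul_smul, add_smul, one_smul])
  have hP : Full hf M (m₀ • a + ω • (m₁ • a)) := by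
    rw [← smul_assoc, ← add_smul, hmd]
    have := hum 1
    rw [one_smul, one_mul] at this
    exact this ▸ hM.full_map hu h
  have := hM.full_real V₀ hskew hiso hnd hVfull (hmem _ hm₀) (hmem _ hm₁) (hzero _ _) hind
    (smul_ne_zero hm0' ha0) hP (hmem _ hs₀) (hmem _ hs₁) (hzero _ _)
  rwa [← smul_assoc, ← add_smul, hsd] at this

/-- All isotropic vectors over the extension are full. -/
theorem full_iso (hmu : Twist F L τ β M) {a : V} (ha0 : a ≠ 0) (ha : β a a = 0) (h : Full hf M a) {x : V}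
    (hx : β x x = 0) : Full hf M x := by
  rcases eq_or_ne x 0 with rfl | hx0
  · exact full_zero
  obtain ⟨u, hu, hl, s, hs, hua⟩ := hM.exists_line_move ha0 hx0 ha hx
  have := hM.full_map hu (hM.full_line hmu ha0 ha h s⁻¹)
  rwa [hl, hua, smul_smul, inv_mul_cancel₀ hs, one_smul] at this

omit hM in
include hf in
theorem exists_perp_value {x : V} (hx : β x x ≠ 0) {N : L} (hN : τ N = N) : ∃ y, β y x = 0 ∧ β y y = N := by
  obtain ⟨w, hw, hww⟩ : ∃ w, β w x = 0 ∧ β w w ≠ 0 := by
    by_contra hcon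
    push Not at hcon
    obtain ⟨y, hy0, hy⟩ := hf.exists_perp x
    refine hy0 (hf.nondeg y fun z => ?_)
    set z' := z - (β z x / β x x) • x with hz'
    have hz : β z' x = 0 := by rw [hz', hf.sub_left, hf.smul_left, div_mul_cancel₀ _ hx, sub_self]
    have hyx : β y z = β y z' := by rw [hz', hf.sub_right, hf.smul_right, hy, mul_zero, sub_zero]
    rw [hyx]
    by_contra hne
    have hne' : β z' y ≠ 0 := fun e => hne (hf.zero_symm e)
    obtain ⟨ω, hω, -⟩ := hf.exists_omega'
    have e := hcon (y + (ω / β z' y) • z') (by rw [hf.add_left, hf.smul_left, hy, hz, mul_zero, add_zero])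
    simp only [hf.add_left, hf.add_right, hf.smul_left, hf.smul_right, hcon y hy, hcon z' hz, mul_zero, add_zero,
      zero_add] at e
    rw [map_div₀, ← hf.herm, div_mul_cancel₀ _ hne', div_mul_cancel₀ _ hne] at e
    exact one_ne_zero (hω.symm.trans ((add_comm _ _).trans e))
  obtain ⟨s, hs⟩ := hf.exists_norm (x := N / β w w) (by rw [map_div₀, hN, hf.self_fixed])
  exact ⟨s • w, by rw [hf.smul_left, hw, mul_zero], by
    rw [hf.smul_left, hf.smul_right, ← mul_assoc, hs, div_mul_cancel₀ _ hww]⟩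

/-- All isotropic vectors of the trace form are full. -/
theorem full_all (hmu : Twist F L τ β M) {a : V} (ha0 : a ≠ 0) (ha : β a a = 0) (h : Full hf M a) {x : V}
    (hx : tf β ε x x = 0) : Full hf M x := by
  by_cases hN : β x x = 0
  · exact hM.full_iso hmu ha0 ha h hN
  set N := β x x with hNdef
  have hNs : τ N = N := hf.self_fixed x
  obtain ⟨ω, hω, -⟩ := hf.exists_omega
  obtain ⟨x₀, hx₀, hx₀ε⟩ := hf.exists_fixed_eps
  obtain ⟨j, hj, hjs⟩ := hf.exists_skew
  set s := j • (x₀ / N) with hs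
  have hss : s + τ s = 0 := by rw [hs, hf.tau_smul, map_div₀, hx₀, hNs, ← add_smul, hjs, zero_smul]
  set α := algebraMap F L ω + s with hα
  have hα1 : α + τ α = 1 := by
    rw [hα, map_add, hf.talg, add_add_add_comm, ← map_add, hω, map_one, hss, add_zero]
  have hεα : ε (α * N) ≠ 0 := by
    rw [hα, add_mul, ← Algebra.smul_def, map_add, map_smul, show ε N = 0 from hx, smul_zero, zero_add, hs,
      smul_mul_assoc, div_mul_cancel₀ _ hN, map_smul]
    exact smul_ne_zero hj hx₀ε
  obtain ⟨y, hyx, hyy⟩ := exists_perp_value (hf := hf) hN (N := -(α * τ α * N))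
    (by rw [map_neg, map_mul, map_mul, hf.tinv, hNs, mul_comm α])
  have hxy : β x y = 0 := hf.zero_symm hyx
  set u := α • x + y with hu'
  have huu : β u u = 0 := by
    simp only [hu', hf.add_left, hf.add_right, hf.smul_left, hf.smul_right, hxy, hyx, hyy, ← hNdef]
    ring
  have hux : β u x = α * N := by rw [hu', hf.add_left, hf.smul_left, hyx, add_zero, ← hNdef]
  have hvv : β (x - u) (x - u) = 0 := by
    rw [hf.sub_left, hf.sub_right, hf.sub_right, huu, hux, hf.herm u x, hux, map_mul, hNs, ← hNdef]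
    linear_combination (-N) * hα1
  have huv : tf β ε u (x - u) = ε (α * N) := by
    rw [tf, hf.sub_right, huu, hux, sub_zero]
  have he : (ε (α * N))⁻¹ + σ (ε (α * N))⁻¹ = 0 := by
    rw [map_inv₀, ← hf.eps_tau, map_mul τ, hNs, show τ α = 1 - α from by linear_combination hα1, sub_mul, one_mul,
      map_sub, show ε N = 0 from hx, zero_sub, inv_neg, add_neg_cancel]
  have := hM.full_step (hM.full_iso hmu ha0 ha h hvv) (hM.full_iso hmu ha0 ha h huu) he
  rwa [huv, inv_mul_cancel₀ hεα, one_smul, add_sub_cancel] at this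

end UExt

end CfsgLib.FieldMax.Unitary
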